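import Cfsg.Agent.ClassNum9.Iso.Split

/-!
Orthogonal decompositions into pieces, normalised, determine a form automorphism up to isometry.
-/

set_option autoImplicit false

namespace Cfsg.Agent.CN9

open Polynomial Module Cfsg.Agent.GLSemi

universe u v w

variable {F : Type u} [Field F] {V : Type v} [AddCommGroup V] [Module F V]
variable {V' : Type w} [AddCommGroup V'] [Module F V']
variable {δ : F} {B : LinearMap.BilinForm F V} {g : V ≃ₗ[F] V}

/-- the orthogonal of a subspace -/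
def perp' (B : LinearMap.BilinForm F V) (W : Submodule F V) : Submodule F V where
  carrier := {x | ∀ w ∈ W, B w x = 0}
  add_mem' := fun {a b} ha hb w hw => by rw [map_add, ha w hw, hb w hw, add_zero]
  zero_mem' := fun w _ => map_zero _
  smul_mem' := fun c a ha w hw => by rw [map_smul, ha w hw, smul_zero]

/-- decompositions into pieces -/
inductive Decomp (δ : F) (B : LinearMap.BilinForm F V) (g : V ≃ₗ[F] V) :
    Submodule F V → Multiset ((F[X] × ℕ) × Bool) → Prop
  | zero : Decomp δ B g ⊥ 0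
  | cons {U W : Submodule F V} {z : (F[X] × ℕ) × Bool} {M : Multiset ((F[X] × ℕ) × Bool)}
      (hW : IsPiece δ B g W z) (hle : W ≤ U) (hM : Decomp δ B g (U ⊓ perp' B W) M) : Decomp δ B g U (z ::ₘ M)

theorem Decomp.front (h : FormAut δ B g) {U : Submodule F V} {M : Multiset ((F[X] × ℕ) × Bool)}
    (hM : Decomp δ B g U M) {z : (F[X] × ℕ) × Bool} (hz : z ∈ M) :
    ∃ (W : Submodule F V) (M' : Multiset ((F[X] × ℕ) × Bool)), IsPiece δ B g W z ∧ W ≤ U ∧
      z ::ₘ M' = M ∧ Decomp δ B g (U ⊓ perp' B W) M' := by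
  induction hM with
  | zero => simp at hz
  | @cons U W0 z0 M hW hle hM ih =>
    by_cases he : z = z0
    · subst he; exact ⟨W0, M, hW, hle, rfl, hM⟩
    · obtain ⟨W, M', hWp, hWle, hM', hd⟩ := ih ((Multiset.mem_cons.1 hz).resolve_left he)
      refine ⟨W, z0 ::ₘ M', hWp, hWle.trans inf_le_left, by rw [Multiset.cons_swap, hM'], Decomp.cons hW ?_ ?_⟩
      · refine le_inf hle fun x hx w hw => ?_
        rw [h.symm, (hWle hw).2 x hx, mul_zero]
      · rwa [inf_right_comm]

theorem Decomp.valid {U : Submodule F V} {M : Multiset ((F[X] × ℕ) × Bool)} (hM : Decomp δ B g U M) :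
    ∀ z ∈ M, ValidLabel δ z := by
  induction hM with
  | zero => simp
  | cons hW _ _ ih => intro z hz; rcases Multiset.mem_cons.1 hz with rfl | hz <;> [exact hW.valid; exact ih z hz]

variable [FiniteDimensional F V]

/-- the orthogonal projection -/
theorem exists_proj (h : FormAut δ B g) {W : Submodule F V} (hnd : NdOn B W) :
    ∃ π : V →ₗ[F] V, (∀ x, π x ∈ W) ∧ (∀ x, ∀ w ∈ W, B w (x - π x) = 0) ∧ (∀ x ∈ W, π x = x) ∧
      ∀ x, (∀ w ∈ W, B w x = 0) → π x = 0 := by
  let R : V →ₗ[F] Module.Dual F W :=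
    { toFun := fun x => (B x).comp W.subtype
      map_add' := fun a b => by ext; simp
      map_smul' := fun c a => by ext; simp }
  let T : W →ₗ[F] Module.Dual F W := R.comp W.subtype
  have hinj : Function.Injective T := by
    rw [← LinearMap.ker_eq_bot, LinearMap.ker_eq_bot']
    intro a ha
    exact Subtype.ext (hnd a a.2 fun y hy => LinearMap.congr_fun ha ⟨y, hy⟩)
  let E := LinearEquiv.ofBijective T ⟨hinj,
    (LinearMap.injective_iff_surjective_of_finrank_eq_finrank Subspace.dual_finrank_eq.symm).1 hinj⟩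
  let π : V →ₗ[F] V := W.subtype.comp (E.symm.toLinearMap.comp R)
  have hmem : ∀ x, π x ∈ W := fun x => (E.symm (R x)).2
  have hperp : ∀ x, ∀ w ∈ W, B (π x) w = B x w := fun x w hw =>
    LinearMap.congr_fun (E.apply_symm_apply (R x)) ⟨w, hw⟩
  have huniq : ∀ a ∈ W, ∀ b ∈ W, (∀ w ∈ W, B a w = B b w) → a = b := fun a ha b hb hab =>
    sub_eq_zero.1 (hnd _ (W.sub_mem ha hb) fun w hw => by rw [map_sub, LinearMap.sub_apply, hab w hw, sub_self])
  refine ⟨π, hmem, fun x w hw => ?_, fun x hx => huniq _ (hmem x) _ hx fun w hw => hperp x w hw, fun x hx => ?_⟩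
  · rw [h.symm, map_sub, LinearMap.sub_apply, hperp x w hw, sub_self, mul_zero]
  · refine huniq _ (hmem x) _ W.zero_mem fun w hw => ?_
    rw [hperp x w hw, h.symm, hx w hw]; simp

theorem map_perp (h : FormAut δ B g) {W : Submodule F V} (hW : ∀ x ∈ W, g x ∈ W) {x : V}
    (hx : ∀ w ∈ W, B w x = 0) : ∀ w ∈ W, B w (g x) = 0 := by
  intro w hw
  have hmap : W.map (g : V →ₗ[F] V) = W := by
    refine Submodule.eq_of_le_of_finrank_eq ?_ (LinearEquiv.finrank_map_eq g W)
    rintro _ ⟨a, ha, rfl⟩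
    exact hW a ha
  rw [← hmap] at hw
  obtain ⟨a, ha, rfl⟩ := hw
  rw [LinearEquiv.coe_coe, h.inv, hx a ha]

theorem rest_props (h : FormAut δ B g) {U W : Submodule F V} (hU : ∀ x ∈ U, g x ∈ U) (hnd : NdOn B U)
    (hle : W ≤ U) (hW : ∀ x ∈ W, g x ∈ W) (hWnd : NdOn B W) :
    (∀ x ∈ U ⊓ perp' B W, g x ∈ U ⊓ perp' B W) ∧ NdOn B (U ⊓ perp' B W) ∧ Disjoint W (U ⊓ perp' B W) ∧
      W ⊔ (U ⊓ perp' B W) = U := by
  obtain ⟨π, hπ, hperp, hfix, -⟩ := exists_proj h hWnd
  refine ⟨fun x hx => ⟨hU x hx.1, map_perp h hW hx.2⟩, fun x hx hxy => ?_, ?_, ?_⟩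
  · refine hnd x hx.1 fun y hy => ?_
    have h1 : B x (π y) = 0 := by rw [h.symm, hx.2 _ (hπ y), mul_zero]
    have h2 : B x (y - π y) = 0 := hxy _ ⟨U.sub_mem hy (hle (hπ y)), hperp y⟩
    rw [← add_sub_cancel (π y) y, map_add, h1, h2, add_zero]
  · rw [Submodule.disjoint_def]
    intro x hx hx'
    exact hWnd x hx fun y hy => by rw [h.symm, hx'.2 y hy, mul_zero]
  · refine le_antisymm (sup_le hle inf_le_left) fun x hx => ?_
    rw [← add_sub_cancel (π x) x]
    exact Submodule.add_mem_sup (hπ x) ⟨U.sub_mem hx (hle (hπ x)), hperp x⟩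

variable [Fintype F]

theorem exists_decomp (h2 : (2 : F) ≠ 0) (h : FormAut δ B g) :
    ∀ (k : ℕ) (U : Submodule F V), finrank F U = k → (∀ x ∈ U, g x ∈ U) → NdOn B U →
      ∃ M, Decomp δ B g U M := by
  intro k
  induction k using Nat.strong_induction_on with
  | _ k ih =>
    intro U hk hU hnd
    by_cases hb : U = ⊥
    · subst hb; exact ⟨0, Decomp.zero⟩
    obtain ⟨W, z, hle, hne, hW⟩ := exists_piece h2 h hU hnd hb
    obtain ⟨hWi, hWnd, -⟩ := piece_props h2 h hW
    obtain ⟨hU', hnd', hdis, hsup⟩ := rest_props h hU hnd hle hWi hWnd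
    have hlt : finrank F ↥(U ⊓ perp' B W) < k := by
      have h1 := Submodule.finrank_sup_add_finrank_inf_eq W (U ⊓ perp' B W)
      rw [hsup, hdis.eq_bot, finrank_bot, add_zero, hk] at h1
      have h0 : 0 < finrank F W := Nat.pos_of_ne_zero fun e => hne (Submodule.finrank_eq_zero.1 e)
      omega
    obtain ⟨M, hM⟩ := ih _ hlt _ rfl hU' hnd'
    exact ⟨z ::ₘ M, Decomp.cons hW hle hM⟩

end Cfsg.Agent.CN9
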