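import Cfsg.Agent.ClassNum9.Iso.Decomp

/-!
Decompositions determine the isometry type; every automorphism has a normalised decomposition.
-/

set_option autoImplicit false

namespace Cfsg.Agent.CN9

open Polynomial Module Cfsg.Agent.GLSemi

universe u v w

variable {F : Type u} [Field F] [Fintype F] {V : Type v} [AddCommGroup V] [Module F V] [FiniteDimensional F V]
variable {V' : Type w} [AddCommGroup V'] [Module F V'] [FiniteDimensional F V']
variable {δ : F} {B : LinearMap.BilinForm F V} {g : V ≃ₗ[F] V}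
variable {B' : LinearMap.BilinForm F V'} {g' : V' ≃ₗ[F] V'}

theorem decomp_iso (h2 : (2 : F) ≠ 0) (h : FormAut δ B g) (h' : FormAut δ B' g') {U : Submodule F V}
    {M : Multiset ((F[X] × ℕ) × Bool)} (hM : Decomp δ B g U M) :
    ∀ {U' : Submodule F V'}, (∀ x ∈ U, g x ∈ U) → NdOn B U → Decomp δ B' g' U' M → IsoOn B g U B' g' U' := by
  induction hM with
  | zero =>
    intro U' _ _ hM'
    cases hz : (0 : Multiset ((F[X] × ℕ) × Bool)) using Multiset.induction_on with
    | empty =>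
      refine ⟨0, ?_, fun x hx y hy => ?_, fun x hx => by simp⟩
      · rw [Submodule.map_bot]
        generalize he : (0 : Multiset ((F[X] × ℕ) × Bool)) = M0 at hM'
        cases hM' with
        | zero => rfl
        | cons _ _ _ => exact absurd he (Multiset.cons_ne_zero ·.symm)
      · rw [Submodule.mem_bot] at hx
        simp [hx]
    | cons a s _ => exact absurd hz.symm Multiset.cons_ne_zero
  | @cons U W z M hW hle hM ih =>
    intro U' hU hnd hM'
    obtain ⟨hWi, hWnd, -⟩ := piece_props h2 h hW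
    obtain ⟨W', M', hW', hle', hMM, hd'⟩ := hM'.front h' (Multiset.mem_cons_self z M)
    rw [Multiset.cons_inj_right] at hMM
    subst hMM
    obtain ⟨hW'i, hW'nd, -⟩ := piece_props h2 h' hW'
    obtain ⟨hU1, hnd1, hdis, hsup⟩ := rest_props h hU hnd hle hWi hWnd
    obtain ⟨f1, hf1, hf1B, hf1g⟩ := piece_iso h2 h h' hW hW'
    obtain ⟨f2, hf2, hf2B, hf2g⟩ := ih hU1 hnd1 hd'
    obtain ⟨π, hπ, hperp, hfix, hkill⟩ := exists_proj h hWnd
    have hmem : ∀ x ∈ U, x - π x ∈ U ⊓ perp' B W := fun x hx => ⟨U.sub_mem hx (hle (hπ x)), hperp x⟩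
    have h1 : ∀ x, f1 (π x) ∈ W' := fun x => hf1 ▸ Submodule.mem_map_of_mem (hπ x)
    have h3 : ∀ x ∈ U, f2 (x - π x) ∈ U' ⊓ perp' B' W' := fun x hx => hf2 ▸ Submodule.mem_map_of_mem (hmem x hx)
    refine ⟨f1.comp π + f2.comp (LinearMap.id - π), ?_, fun x hx y hy => ?_, fun x hx => ?_⟩
    · refine le_antisymm ?_ fun y hy => ?_
      · rintro _ ⟨x, hx, rfl⟩
        exact U'.add_mem (hle' (h1 x)) (h3 x hx).1
      · obtain ⟨π', hπ', hperp', -, -⟩ := exists_proj h' hW'nd
        obtain ⟨a, ha, hay⟩ : π' y ∈ W.map f1 := hf1.symm ▸ hπ' y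
        obtain ⟨c, hc, hcy⟩ : y - π' y ∈ (U ⊓ perp' B W).map f2 := by
          rw [hf2]; exact ⟨U'.sub_mem hy (hle' (hπ' y)), hperp' y⟩
        refine ⟨a + c, U.add_mem (hle ha) hc.1, ?_⟩
        have hπa : π (a + c) = a := by rw [map_add, hfix a ha, hkill c hc.2, add_zero]
        simp only [LinearMap.add_apply, LinearMap.comp_apply, LinearMap.sub_apply, LinearMap.id_apply, hπa,
          add_sub_cancel_left, hay, hcy, add_sub_cancel]
    · have e : ∀ x, x = π x + (x - π x) := fun x => (add_sub_cancel (π x) x).symm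
      simp only [LinearMap.add_apply, LinearMap.comp_apply, LinearMap.sub_apply, LinearMap.id_apply]
      rw [map_add, map_add, LinearMap.add_apply, LinearMap.add_apply, hf1B _ (hπ x) _ (hπ y),
        hf2B _ (hmem x hx) _ (hmem y hy)]
      have c1 : B' (f1 (π x)) (f2 (y - π y)) = 0 := (h3 y hy).2 _ (h1 x)
      have c2 : B' (f2 (x - π x)) (f1 (π y)) = 0 := by rw [h'.symm, (h3 x hx).2 _ (h1 y), mul_zero]
      rw [c1, c2]
      conv_rhs => rw [e x, e y, map_add, map_add, LinearMap.add_apply, LinearMap.add_apply]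
      have c3 : B (π x) (y - π y) = 0 := hperp y _ (hπ x)
      have c4 : B (x - π x) (π y) = 0 := by rw [h.symm, hperp x _ (hπ y), mul_zero]
      rw [c3, c4]
    · have hgπ : π (g x) = g (π x) := by
        conv_lhs => rw [← add_sub_cancel (π x) x, map_add g, map_add π, hfix _ (hWi _ (hπ x)),
          hkill _ (map_perp h hWi (hperp x)), add_zero]
      simp only [LinearMap.add_apply, LinearMap.comp_apply, LinearMap.sub_apply, LinearMap.id_apply, hgπ, map_add]
      rw [hf1g _ (hπ x), ← map_sub g, hf2g _ (hmem x hx)]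

theorem decomp_dim (h2 : (2 : F) ≠ 0) (h : FormAut δ B g) {U : Submodule F V}
    {M : Multiset ((F[X] × ℕ) × Bool)} (hM : Decomp δ B g U M) :
    (∀ x ∈ U, g x ∈ U) → NdOn B U → (M.map fun z => z.1.2 * z.1.1.natDegree).sum = finrank F U := by
  induction hM with
  | zero => simp
  | @cons U W z M hW hle hM ih =>
    intro hU hnd
    obtain ⟨hWi, hWnd, hdim⟩ := piece_props h2 h hW
    obtain ⟨hU1, hnd1, hdis, hsup⟩ := rest_props h hU hnd hle hWi hWnd
    have h1 := Submodule.finrank_sup_add_finrank_inf_eq W (U ⊓ perp' B W)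
    rw [hsup, hdis.eq_bot, finrank_bot, add_zero] at h1
    rw [Multiset.map_cons, Multiset.sum_cons, ih hU1 hnd1, h1, hdim]

/-- two nonsquare pieces give two square ones -/
theorem decomp_pair (h2 : (2 : F) ≠ 0) (h : FormAut δ B g) {U : Submodule F V}
    (hU : ∀ x ∈ U, g x ∈ U) (hnd : NdOn B U) {P : F[X]} {e : ℕ} {M : Multiset ((F[X] × ℕ) × Bool)}
    (hM : Decomp δ B g U (((P, e), true) ::ₘ ((P, e), true) ::ₘ M)) :
    Decomp δ B g U (((P, e), false) ::ₘ ((P, e), false) ::ₘ M) := by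
  classical
  obtain ⟨W1, M1, hW1, hle1, hMM1, hd1⟩ := hM.front h (Multiset.mem_cons_self _ _)
  rw [Multiset.cons_inj_right] at hMM1
  subst hMM1
  obtain ⟨W2, M2, hW2, hle2, hMM2, hd2⟩ := hd1.front h (Multiset.mem_cons_self _ _)
  rw [Multiset.cons_inj_right] at hMM2
  subst hMM2
  obtain ⟨he, hz1⟩ := hW1
  obtain ⟨-, hz2⟩ := hW2
  simp only at he
  rcases hz1 with ⟨-, hf, -⟩ | ⟨s, hs, hP, hsign, v1, hv1, hν1⟩ | ⟨-, -, -, -, hf, -⟩
  · exact absurd hf (by simp)
  swap
  · exact absurd hf (by simp)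
  rcases hz2 with ⟨-, hf, -⟩ | ⟨s', -, hP', -, v2, hv2, hν2⟩ | ⟨-, -, -, -, hf, -⟩
  · exact absurd hf (by simp)
  swap
  · exact absurd hf (by simp)
  simp only at hP hP' hv1 hv2 hν1 hν2 hsign
  subst hP
  obtain rfl : s = s' := by simpa using hP'
  set E := (X - C s) ^ (e - 1) with hE
  set Q := (X - C s) ^ e
  set L1 := B v1 (pev g E v1) with hL1
  set L2 := B v2 (pev g E v2) with hL2
  have hn1 : ¬ IsSquare L1 := hν1.1 trivial
  have hn2 : ¬ IsSquare L2 := hν2.1 trivial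
  have hL10 : L1 ≠ 0 := hv1.lead_ne he
  have hL20 : L2 ≠ 0 := hv2.lead_ne he
  have hmem1 : v1 ∈ W1 := by simpa using hv1.1 1
  have hmem2 : v2 ∈ W2 := by simpa using hv2.1 1
  have horth : ∀ a ∈ W1, ∀ b ∈ W2, B a b = 0 ∧ B b a = 0 := fun a ha b hb =>
    ⟨(hle2 hb).2 a ha, by rw [h.symm, (hle2 hb).2 a ha, mul_zero]⟩
  obtain ⟨a, b, hab⟩ : ∃ a b : F, L1 * a ^ 2 + L2 * b ^ 2 = 1 := by
    obtain ⟨a, b, hab⟩ := FiniteField.exists_root_sum_quadratic (R := F) (f := C L1 * X ^ 2 + C 0 * X + C (-1))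
      (g := C L2 * X ^ 2 + C 0 * X + C 0) (degree_quadratic hL10) (degree_quadratic hL20)
      (FiniteField.odd_card_of_char_ne_two fun hc => h2 (by
        haveI := ringChar.of_eq hc
        exact CharP.cast_eq_zero F 2))
    refine ⟨a, b, ?_⟩
    simp only [eval_add, eval_mul, eval_C, eval_pow, eval_X] at hab
    linear_combination hab
  set v := a • v1 + b • v2 with hv
  set v' := (-(b * L2)) • v1 + (a * L1) • v2 with hv'
  have hEm1 : ∀ p, pev g p v1 ∈ W1 := hv1.1
  have hEm2 : ∀ p, pev g p v2 ∈ W2 := hv2.1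
  have hlv : B v (pev g E v) = 1 := by
    rw [hv]
    simp only [map_add, map_smul, LinearMap.add_apply, LinearMap.smul_apply, smul_eq_mul,
      (horth v1 hmem1 _ (hEm2 E)).1, (horth _ (hEm1 E) v2 hmem2).2, ← hL1, ← hL2]
    linear_combination hab
  have hlvv' : B v (pev g E v') = 0 := by
    rw [hv, hv']
    simp only [map_add, map_smul, LinearMap.add_apply, LinearMap.smul_apply, smul_eq_mul,
      (horth v1 hmem1 _ (hEm2 E)).1, (horth _ (hEm1 E) v2 hmem2).2, ← hL1, ← hL2]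
    ring
  have hlv' : B v' (pev g E v') = L1 * L2 := by
    rw [hv']
    simp only [map_add, map_smul, LinearMap.add_apply, LinearMap.smul_apply, smul_eq_mul,
      (horth v1 hmem1 _ (hEm2 E)).1, (horth _ (hEm1 E) v2 hmem2).2, ← hL1, ← hL2]
    linear_combination (L1 * L2) * hab
  have hQv : pev g Q v = 0 := by
    rw [hv, map_add, map_smul, map_smul, hv1.2.2.1, hv2.2.2.1, smul_zero, smul_zero, add_zero]
  have hQv' : pev g Q v' = 0 := by
    rw [hv', map_add, map_smul, map_smul, hv1.2.2.1, hv2.2.2.1, smul_zero, smul_zero, add_zero]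
  have hcy : IsCyc B g (cycSpan g v) Q v :=
    isCyc_irreducible h (irreducible_X_sub_C s) hQv (r0 := 1) (by rw [mul_one, hlv]; exact one_ne_zero)
  have hW' : IsPiece δ B g (cycSpan g v) ((X - C s, e), false) := ⟨he, Or.inr (Or.inl ⟨s, hs, rfl, hsign, v, hcy, by
    simp only [Bool.false_eq_true, false_iff, not_not]
    rw [hlv]
    exact IsSquare.one⟩)⟩
  obtain ⟨hW'i, hW'nd, hW'dim⟩ := piece_props h2 h hW'
  obtain ⟨hW1i, hW1nd, hW1dim⟩ := piece_props h2 h (⟨he, Or.inr (Or.inl ⟨s, hs, rfl, hsign, v1, hv1, fun _ => hn1, fun _ => rfl⟩)⟩ :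
    IsPiece δ B g W1 ((X - C s, e), true))
  obtain ⟨hW2i, hW2nd, hW2dim⟩ := piece_props h2 h (⟨he, Or.inr (Or.inl ⟨s, hs, rfl, hsign, v2, hv2, fun _ => hn2, fun _ => rfl⟩)⟩ :
    IsPiece δ B g W2 ((X - C s, e), true))
  have h12i : ∀ x ∈ W1 ⊔ W2, g x ∈ W1 ⊔ W2 := by
    intro x hx
    obtain ⟨p, hp, r, hr, rfl⟩ := Submodule.mem_sup.1 hx
    rw [map_add]
    exact Submodule.add_mem_sup (hW1i p hp) (hW2i r hr)
  have hv12 : v ∈ W1 ⊔ W2 := Submodule.add_mem_sup (W1.smul_mem a hmem1) (W2.smul_mem b hmem2)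
  have hv'12 : v' ∈ W1 ⊔ W2 := Submodule.add_mem_sup (W1.smul_mem _ hmem1) (W2.smul_mem _ hmem2)
  obtain ⟨π, hπ, hperp, hfix, hkill⟩ := exists_proj h hW'nd
  set w := v' - π v' with hw
  obtain ⟨p, hp⟩ := mem_cycSpan.1 (hπ v')
  have hQπ : pev g Q (π v') = 0 := by rw [← hp, pev_comm, hQv, map_zero]
  have hQw : pev g Q w = 0 := by rw [hw, map_sub, hQv', hQπ, sub_zero]
  have hi : ∀ q, ∀ y ∈ cycSpan g v, B y (pev g q w) = 0 := by
    intro q
    induction q using Polynomial.induction_on with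
    | C c => intro y hy; rw [pev_C, map_smul, hperp v' y hy, smul_zero]
    | add q r hq hr => intro y hy; rw [map_add, LinearMap.add_apply, map_add, hq y hy, hr y hy, add_zero]
    | monomial k c ih =>
      intro y hy
      rw [show C c * X ^ (k + 1) = X * (C c * X ^ k) by ring, pev_mul, pev_X]
      exact map_perp h hW'i ih y hy
  have hperpE : B v (pev g E w) = 0 := hi E v ⟨1, by simp⟩
  have hπE : pev g E (π v') = 0 := by
    have h1 : pev g E (π v') = p.eval s • pev g E v := by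
      rw [← hp, ← pev_mul, ← pev_C g (p.eval s), ← pev_mul]
      refine pev_congr hQv ?_
      rw [map_mul, map_mul, mul_comm, socle_mul s he, Algebra.smul_def, AdjoinRoot.algebraMap_eq, ← AdjoinRoot.mk_C]
    have h2' : p.eval s = 0 := by
      rw [hw, map_sub, map_sub, hlvv', h1, map_smul, hlv] at hperpE
      simpa using hperpE
    rw [h1, h2', zero_smul]
  have hEw : pev g E w = pev g E v' := by rw [hw, map_sub, hπE, sub_zero]
  have hlw : B w (pev g E w) = L1 * L2 := by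
    rw [hEw, hw, map_sub, LinearMap.sub_apply, hlv']
    have h0 : B (π v') (pev g E v') = 0 := by rw [← hEw]; exact hi E _ (hπ v')
    rw [h0, sub_zero]
  have hcyw : IsCyc B g (cycSpan g w) Q w :=
    isCyc_irreducible h (irreducible_X_sub_C s) hQw (r0 := 1) (by rw [mul_one, hlw]; exact mul_ne_zero hL10 hL20)
  have hW'' : IsPiece δ B g (cycSpan g w) ((X - C s, e), false) := ⟨he, Or.inr (Or.inl ⟨s, hs, rfl, hsign, w, hcyw, by
    simp only [Bool.false_eq_true, false_iff, not_not]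
    rw [hlw]
    have hne : L1 * L2 ≠ 0 := mul_ne_zero hL10 hL20
    rw [← quadraticChar_one_iff_isSquare hne, map_mul, quadraticChar_neg_one_iff_not_isSquare.2 hn1,
      quadraticChar_neg_one_iff_not_isSquare.2 hn2]
    norm_num⟩)⟩
  obtain ⟨hW''i, hW''nd, hW''dim⟩ := piece_props h2 h hW''
  have h12U : W1 ⊔ W2 ≤ U := sup_le hle1 (hle2.trans inf_le_left)
  have hv'U : cycSpan g v ≤ U := cycSpan_le hU (h12U hv12)
  have hperpW : cycSpan g w ≤ U ⊓ perp' B (cycSpan g v) := by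
    obtain ⟨hU1, -, -, -⟩ := rest_props h hU hnd hv'U hW'i hW'nd
    exact cycSpan_le hU1 ⟨U.sub_mem (h12U hv'12) (hv'U (hπ v')), hperp v'⟩
  have hsup : cycSpan g v ⊔ cycSpan g w = W1 ⊔ W2 := by
    refine Submodule.eq_of_le_of_finrank_eq (sup_le (cycSpan_le h12i hv12) (cycSpan_le h12i ?_)) ?_
    · exact (W1 ⊔ W2).sub_mem hv'12 (cycSpan_le h12i hv12 (hπ v'))
    · have d1 := Submodule.finrank_sup_add_finrank_inf_eq (cycSpan g v) (cycSpan g w)
      have e1 : cycSpan g v ⊓ cycSpan g w = ⊥ := by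
        rw [eq_bot_iff]
        rintro x ⟨hx, hx'⟩
        exact hW'nd x hx fun y hy => by rw [h.symm, (hperpW hx').2 y hy, mul_zero]
      have d2 := Submodule.finrank_sup_add_finrank_inf_eq W1 W2
      have e2 : W1 ⊓ W2 = ⊥ := by
        rw [eq_bot_iff]
        rintro x ⟨hx, hx'⟩
        exact hW1nd x hx fun y hy => (horth y hy x hx').2
      rw [e1, finrank_bot, hW'dim, hW''dim] at d1
      rw [e2, finrank_bot, hW1dim, hW2dim] at d2
      simp only at d1 d2
      omega
  refine Decomp.cons hW' hv'U (Decomp.cons hW'' hperpW ?_)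
  have hperpsup : ∀ A C' : Submodule F V, U ⊓ perp' B A ⊓ perp' B C' = U ⊓ perp' B (A ⊔ C') := by
    intro A C'
    refine le_antisymm (fun x hx => ⟨hx.1.1, fun y hy => ?_⟩) (fun x hx => ⟨⟨hx.1, fun y hy => hx.2 y (Submodule.mem_sup_left hy)⟩,
      fun y hy => hx.2 y (Submodule.mem_sup_right hy)⟩)
    obtain ⟨p, hp, r, hr, rfl⟩ := Submodule.mem_sup.1 hy
    rw [map_add, LinearMap.add_apply, hx.1.2 p hp, hx.2 r hr, add_zero]
  rwa [hperpsup, hsup, ← hperpsup]

/-- at most one nonsquare piece of each kind -/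
def Normalised (M : Multiset ((F[X] × ℕ) × Bool)) : Prop :=
  ∀ z ∈ M, z.2 = true → ∀ M', M = z ::ₘ M' → z ∉ M'

theorem exists_normalised (h2 : (2 : F) ≠ 0) (h : FormAut δ B g) (hU : NdOn B (⊤ : Submodule F V)) :
    ∃ M, Decomp δ B g ⊤ M ∧ Normalised M := by
  classical
  obtain ⟨M0, hM0⟩ := exists_decomp h2 h _ ⊤ rfl (fun _ _ => Submodule.mem_top) hU
  suffices key : ∀ k M, M.countP (fun z => z.2 = true) = k → Decomp δ B g ⊤ M → ∃ M', Decomp δ B g ⊤ M' ∧ Normalised M' from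
    key _ M0 rfl hM0
  intro k
  induction k using Nat.strong_induction_on with
  | _ k ih =>
    intro M hk hM
    by_cases hN : Normalised M
    · exact ⟨M, hM, hN⟩
    simp only [Normalised] at hN
    push Not at hN
    obtain ⟨z, -, hz2, M1, rfl, hz1⟩ := hN
    obtain ⟨M2, rfl⟩ := Multiset.exists_cons_of_mem hz1
    obtain ⟨⟨P, e⟩, ν⟩ := z
    simp only at hz2
    subst hz2
    refine ih _ ?_ _ rfl (decomp_pair h2 h (fun _ _ => Submodule.mem_top) hU hM)
    rw [← hk]
    simp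

/-- equal labels: conjugate by an isometry -/
theorem exists_isometry (h2 : (2 : F) ≠ 0) (h : FormAut δ B g) {g2 : V ≃ₗ[F] V} (h' : FormAut δ B g2)
    (hnd : NdOn B (⊤ : Submodule F V)) {M : Multiset ((F[X] × ℕ) × Bool)} (hM : Decomp δ B g ⊤ M)
    (hM' : Decomp δ B g2 ⊤ M) :
    ∃ f : V ≃ₗ[F] V, (∀ x y, B (f x) (f y) = B x y) ∧ ∀ x, f (g x) = g2 (f x) := by
  obtain ⟨f, hf, hfB, hfg⟩ := decomp_iso h2 h h' hM (fun _ _ => Submodule.mem_top) hnd hM'
  rw [Submodule.map_top] at hf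
  have hsur : Function.Surjective f := LinearMap.range_eq_top.1 hf
  exact ⟨LinearEquiv.ofBijective f ⟨LinearMap.injective_iff_surjective.2 hsur, hsur⟩,
    fun x y => hfB x Submodule.mem_top y Submodule.mem_top, fun x => hfg x Submodule.mem_top⟩

end Cfsg.Agent.CN9
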