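import Cfsg.Agent.ClassNum9.Iso.Space

/-!
Orthogonally indecomposable pieces of a form automorphism, and their uniqueness.
-/

set_option autoImplicit false

namespace Cfsg.Agent.CN9

open Polynomial Module Cfsg.Agent.GLSemi

universe u v w

variable {F : Type u} [Field F] {V : Type v} [AddCommGroup V] [Module F V]
variable {V' : Type w} [AddCommGroup V'] [Module F V']

/-- a cyclic nondegenerate piece -/
def IsCyc (B : LinearMap.BilinForm F V) (g : V ≃ₗ[F] V) (W : Submodule F V) (Q : F[X]) (v : V) : Prop :=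
  (∀ p, pev g p v ∈ W) ∧ (∀ x ∈ W, ∃ p, pev g p v = x) ∧ pev g Q v = 0 ∧
    ∀ p, (∀ r, B v (pev g (p * r) v) = 0) → Q ∣ p

/-- a nondegenerate piece with two generators -/
def IsDbl (B : LinearMap.BilinForm F V) (g : V ≃ₗ[F] V) (W : Submodule F V) (s : F) (e : ℕ) (v w : V) : Prop :=
  (∀ p r, pev g p v + pev g r w ∈ W) ∧ (∀ x ∈ W, ∃ p r, pev g p v + pev g r w = x) ∧
    pev g ((X - C s) ^ e) v = 0 ∧ pev g ((X - C s) ^ e) w = 0 ∧ B v (pev g ((X - C s) ^ (e - 1)) w) ≠ 0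

/-- polynomials of the pieces away from `±1` -/
def IsReg (P : F[X]) : Prop :=
  SelfDual P ∧ P.eval 1 ≠ 0 ∧ P.eval (-1) ≠ 0 ∧
    (Irreducible P ∨ ∃ f : F[X], Irreducible f ∧ f.Monic ∧ f.coeff 0 ≠ 0 ∧ dual (RingHom.id F) f ≠ f ∧
      P = f * dual (RingHom.id F) f)

/-- pieces with a label -/
def IsPiece (δ : F) (B : LinearMap.BilinForm F V) (g : V ≃ₗ[F] V) (W : Submodule F V)
    (z : (F[X] × ℕ) × Bool) : Prop :=
  1 ≤ z.1.2 ∧
    ((IsReg z.1.1 ∧ z.2 = false ∧ ∃ v, IsCyc B g W (z.1.1 ^ z.1.2) v) ∨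
      (∃ s : F, (s = 1 ∨ s = -1) ∧ z.1.1 = X - C s ∧ δ * (-1) ^ (z.1.2 - 1) = 1 ∧
        ∃ v, IsCyc B g W (z.1.1 ^ z.1.2) v ∧
          (z.2 = true ↔ ¬ IsSquare (B v (pev g ((X - C s) ^ (z.1.2 - 1)) v)))) ∨
      (∃ s : F, (s = 1 ∨ s = -1) ∧ z.1.1 = (X - C s) ^ 2 ∧ δ * (-1) ^ (z.1.2 - 1) = -1 ∧ z.2 = false ∧
        ∃ v w, IsDbl B g W s z.1.2 v w))

/-- an isometry of invariant subspaces commuting with the automorphisms -/
def IsoOn (B : LinearMap.BilinForm F V) (g : V ≃ₗ[F] V) (W : Submodule F V) (B' : LinearMap.BilinForm F V')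
    (g' : V' ≃ₗ[F] V') (W' : Submodule F V') : Prop :=
  ∃ f : V →ₗ[F] V', W.map f = W' ∧ (∀ x ∈ W, ∀ y ∈ W, B' (f x) (f y) = B x y) ∧ ∀ x ∈ W, f (g x) = g' (f x)

theorem selfDual_X_sub_C {s : F} (hs : s = 1 ∨ s = -1) : SelfDual (X - C s) := by
  have hs0 : s ≠ 0 := by rcases hs with rfl | rfl <;> simp
  have h1 : (X - C s).Monic := monic_X_sub_C s
  have h0 : (X - C s).coeff 0 ≠ 0 := by simpa using hs0
  refine ⟨h1, h0, ?_⟩
  have h2 := monic_dual (RingHom.id F) h0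
  rw [h2.eq_X_add_C (by rw [natDegree_dual (RingHom.id F) h0, natDegree_X_sub_C]), coeff_zero_dual _ h1]
  rcases hs with rfl | rfl <;> simp [sub_eq_add_neg, inv_neg]

theorem sign_sq {s : F} (hs : s = 1 ∨ s = -1) : s * s = 1 := by rcases hs with rfl | rfl <;> simp

/-- evaluation against the socle -/
theorem socle_mul (s : F) {e : ℕ} (he : 1 ≤ e) (p : F[X]) :
    AdjoinRoot.mk ((X - C s) ^ e) p * AdjoinRoot.mk ((X - C s) ^ e) ((X - C s) ^ (e - 1)) =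
      p.eval s • AdjoinRoot.mk ((X - C s) ^ e) ((X - C s) ^ (e - 1)) := by
  rw [Algebra.smul_def, AdjoinRoot.algebraMap_eq, ← AdjoinRoot.mk_C, ← map_mul, ← map_mul, AdjoinRoot.mk_eq_mk,
    ← sub_mul]
  obtain ⟨r, hr⟩ : X - C s ∣ p - C (p.eval s) := dvd_iff_isRoot.2 (by simp)
  rw [hr]
  refine ⟨r, ?_⟩
  rw [show (X - C s) ^ e = (X - C s) ^ (e - 1) * (X - C s) by rw [← pow_succ]; congr 1; omega]
  ring

theorem tau_socle {s : F} (hs : s = 1 ∨ s = -1) {e : ℕ} (he : 1 ≤ e)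
    {τ : AdjoinRoot ((X - C s) ^ e) →ₐ[F] AdjoinRoot ((X - C s) ^ e)}
    (hτr : τ (AdjoinRoot.root ((X - C s) ^ e)) * AdjoinRoot.root ((X - C s) ^ e) = 1) :
    τ (AdjoinRoot.mk ((X - C s) ^ e) ((X - C s) ^ (e - 1))) =
      ((-1 : F) ^ (e - 1)) • AdjoinRoot.mk ((X - C s) ^ e) ((X - C s) ^ (e - 1)) := by
  set E1 := AdjoinRoot.mk ((X - C s) ^ e) ((X - C s) ^ (e - 1)) with hE1
  have hss : (algebraMap F (AdjoinRoot ((X - C s) ^ e)) s) * algebraMap F (AdjoinRoot ((X - C s) ^ e)) s = 1 := by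
    rw [← map_mul, sign_sq hs, map_one]
  have hroot : AdjoinRoot.root ((X - C s) ^ e) * E1 = algebraMap F (AdjoinRoot ((X - C s) ^ e)) s * E1 := by
    rw [← AdjoinRoot.mk_X, socle_mul s he, eval_X, Algebra.smul_def]
  have hr' : τ (AdjoinRoot.root ((X - C s) ^ e)) * E1 = algebraMap F (AdjoinRoot ((X - C s) ^ e)) s * E1 := by
    calc τ (AdjoinRoot.root ((X - C s) ^ e)) * E1 = τ (AdjoinRoot.root ((X - C s) ^ e)) * (algebraMap F _ s * (algebraMap F _ s * E1)) := by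
          rw [← mul_assoc (algebraMap F _ s), hss, one_mul]
      _ = algebraMap F _ s * ((τ (AdjoinRoot.root ((X - C s) ^ e)) * AdjoinRoot.root ((X - C s) ^ e)) * E1) := by rw [← hroot]; ring
      _ = _ := by rw [hτr, one_mul]
  have hε : τ (AdjoinRoot.mk ((X - C s) ^ e) (X - C s)) =
      -(algebraMap F (AdjoinRoot ((X - C s) ^ e)) s) * τ (AdjoinRoot.root ((X - C s) ^ e)) * AdjoinRoot.mk ((X - C s) ^ e) (X - C s) := by
    rw [map_sub (AdjoinRoot.mk ((X - C s) ^ e)), map_sub τ, AdjoinRoot.mk_X, AdjoinRoot.mk_C, ← AdjoinRoot.algebraMap_eq,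
      τ.commutes]
    linear_combination (algebraMap F (AdjoinRoot ((X - C s) ^ e)) s) * hτr - τ (AdjoinRoot.root ((X - C s) ^ e)) * hss
  have hk : ∀ k : ℕ, τ (AdjoinRoot.root ((X - C s) ^ e)) ^ k * E1 = (algebraMap F (AdjoinRoot ((X - C s) ^ e)) s) ^ k * E1 := by
    intro k
    induction k with
    | zero => simp
    | succ k ih => rw [pow_succ, mul_assoc, hr', ← mul_assoc, mul_comm _ (algebraMap F _ s), mul_assoc, ih, pow_succ']; ring
  have hp : (-(algebraMap F (AdjoinRoot ((X - C s) ^ e)) s)) ^ (e - 1) * (algebraMap F (AdjoinRoot ((X - C s) ^ e)) s) ^ (e - 1) =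
      algebraMap F (AdjoinRoot ((X - C s) ^ e)) ((-1) ^ (e - 1)) := by
    rw [← mul_pow, neg_mul, hss, map_pow, map_neg, map_one]
  calc τ E1 = (-(algebraMap F (AdjoinRoot ((X - C s) ^ e)) s)) ^ (e - 1) * (τ (AdjoinRoot.root ((X - C s) ^ e)) ^ (e - 1) * E1) := by
        rw [hE1, map_pow, map_pow, hε, mul_pow, mul_pow]; ring
    _ = _ := by rw [hk, ← mul_assoc, hp, Algebra.smul_def]

theorem tau_mul_socle {s : F} (hs : s = 1 ∨ s = -1) {e : ℕ} (he : 1 ≤ e)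
    {τ : AdjoinRoot ((X - C s) ^ e) →ₐ[F] AdjoinRoot ((X - C s) ^ e)}
    (hτr : τ (AdjoinRoot.root ((X - C s) ^ e)) * AdjoinRoot.root ((X - C s) ^ e) = 1) (p : F[X]) :
    τ (AdjoinRoot.mk ((X - C s) ^ e) p) * AdjoinRoot.mk ((X - C s) ^ e) ((X - C s) ^ (e - 1)) =
      p.eval s • AdjoinRoot.mk ((X - C s) ^ e) ((X - C s) ^ (e - 1)) := by
  set E1 := AdjoinRoot.mk ((X - C s) ^ e) ((X - C s) ^ (e - 1))
  have h1 : τ (AdjoinRoot.mk ((X - C s) ^ e) p * E1) = τ (p.eval s • E1) := by rw [socle_mul s he]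
  rw [map_mul, map_smul, tau_socle hs he hτr, mul_smul_comm, smul_comm] at h1
  exact smul_right_injective _ (pow_ne_zero (e - 1) (neg_ne_zero.2 (one_ne_zero (α := F)))) h1

variable {δ : F} {B : LinearMap.BilinForm F V} {g : V ≃ₗ[F] V} {W : Submodule F V}

/-- the ring model of a cyclic piece -/
theorem IsCyc.model (h : FormAut δ B g) {Q : F[X]} (hQ : SelfDual Q) {v : V} (hW : IsCyc B g W Q v)
    {τ : AdjoinRoot Q →ₐ[F] AdjoinRoot Q} (hτr : τ (AdjoinRoot.root Q) * AdjoinRoot.root Q = 1) :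
    ∃ (ρ : AdjoinRoot Q →ₗ[F] V) (φ : AdjoinRoot Q →ₗ[F] F),
      Function.Injective ρ ∧ LinearMap.range ρ = W ∧ NdF φ ∧
      (∀ a b, B (ρ a) (ρ b) = φ (τ a * b)) ∧ (∀ a, g (ρ a) = ρ (AdjoinRoot.root Q * a)) ∧
      (∀ a, φ (τ a) = δ * φ a) ∧ ∀ p, φ (AdjoinRoot.mk Q p) = B v (pev g p v) := by
  obtain ⟨h1, h2, h3, h4⟩ := hW
  obtain ⟨ρ, φ, hρ, hφ, hpair, hg, hsym⟩ := exists_rho h hQ hτr v h3
  have hnd : NdF φ := by
    intro a ha
    obtain ⟨p, rfl⟩ := AdjoinRoot.mk_surjective a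
    rw [AdjoinRoot.mk_eq_zero]
    exact h4 p fun r => by rw [← hρ, ← hφ, map_mul]; exact ha _
  refine ⟨ρ, φ, ?_, ?_, hnd, hpair, hg, hsym, fun p => by rw [hφ, hρ]⟩
  · rw [← LinearMap.ker_eq_bot, LinearMap.ker_eq_bot']
    intro a ha
    refine hnd a fun b => ?_
    have : φ (τ (a * b)) = 0 := by rw [map_mul, ← hpair, ha]; simp
    rw [hsym] at this
    exact (mul_eq_zero.1 this).resolve_left h.sign_ne
  · ext x
    constructor
    · rintro ⟨a, rfl⟩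
      obtain ⟨p, rfl⟩ := AdjoinRoot.mk_surjective a
      rw [hρ]; exact h1 p
    · intro hx
      obtain ⟨p, rfl⟩ := h2 x hx
      exact ⟨_, hρ p⟩

/-- transporting along ring models -/
theorem isoOn_of_model {M : Type*} [AddCommGroup M] [Module F M] {ρ : M →ₗ[F] V} (hinj : Function.Injective ρ)
    (hr : LinearMap.range ρ = W) {B' : LinearMap.BilinForm F V'} {g' : V' ≃ₗ[F] V'} {W' : Submodule F V'}
    {ρ' : M →ₗ[F] V'} (hr' : LinearMap.range ρ' = W') (T : M →ₗ[F] M) (hT : Function.Surjective T)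
    (hB : ∀ a b, B' (ρ' (T a)) (ρ' (T b)) = B (ρ a) (ρ b)) (R : M →ₗ[F] M) (hg : ∀ a, g (ρ a) = ρ (R a))
    (hg' : ∀ a, g' (ρ' a) = ρ' (R a)) (hTR : ∀ a, T (R a) = R (T a)) : IsoOn B g W B' g' W' := by
  obtain ⟨l, hl⟩ := ρ.exists_leftInverse_of_injective (LinearMap.ker_eq_bot.2 hinj)
  have hl' : ∀ a, l (ρ a) = a := fun a => LinearMap.congr_fun hl a
  subst hr
  refine ⟨(ρ'.comp T).comp l, ?_, ?_, ?_⟩
  · rw [← LinearMap.range_comp, LinearMap.comp_assoc, hl, LinearMap.comp_id, LinearMap.range_comp,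
      LinearMap.range_eq_top.2 hT, Submodule.map_top, hr']
  · rintro _ ⟨a, rfl⟩ _ ⟨b, rfl⟩
    simp only [LinearMap.comp_apply, hl']
    exact hB a b
  · rintro _ ⟨a, rfl⟩
    simp only [LinearMap.comp_apply, hl', hg, hg', hTR]

variable {B' : LinearMap.BilinForm F V'} {g' : V' ≃ₗ[F] V'} {W' : Submodule F V'}

theorem isoOn_of_factor (h : FormAut δ B g) (h' : FormAut δ B' g') {Q : F[X]} (hQ : SelfDual Q)
    [Finite F] {v : V} {v' : V'} (hW : IsCyc B g W Q v) (hW' : IsCyc B' g' W' Q v')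
    (hnorm : ∀ (τ : AdjoinRoot Q →ₐ[F] AdjoinRoot Q) (φ φ' : AdjoinRoot Q →ₗ[F] F) (k : AdjoinRoot Q),
      τ (AdjoinRoot.root Q) * AdjoinRoot.root Q = 1 → (∀ a, τ (τ a) = a) →
      (∀ p, φ (AdjoinRoot.mk Q p) = B v (pev g p v)) → (∀ p, φ' (AdjoinRoot.mk Q p) = B' v' (pev g' p v')) →
      IsUnit k → τ k = k → (∀ x, φ x = φ' (k * x)) → ∃ c, IsUnit c ∧ c * τ c = k) :
    IsoOn B g W B' g' W' := by
  obtain ⟨τ, hτr, hττ⟩ := exists_bar hQ
  obtain ⟨ρ, φ, hinj, hr, hnd, hpair, hg, hsym, hφ⟩ := hW.model h hQ hτr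
  obtain ⟨ρ', φ', -, hr', hnd', hpair', hg', hsym', hφ'⟩ := hW'.model h' hQ hτr
  haveI : Module.Finite F (AdjoinRoot Q) := (AdjoinRoot.powerBasis' hQ.1).finite
  obtain ⟨k, hk, hkx⟩ := exists_factor hnd' hnd
  have hfix : τ k = k := by
    have hz : ∀ b, φ' ((τ k - k) * b) = 0 := fun b => by
      rw [sub_mul, map_sub, sub_eq_zero]
      have e1 : φ' (τ (k * τ b)) = δ * φ' (k * τ b) := hsym' _
      rw [map_mul, hττ] at e1
      rw [e1, ← hkx, hsym, ← mul_assoc, hkx]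
      rcases h.sign with hd | hd <;> rw [hd] <;> simp
    exact sub_eq_zero.1 (hnd' _ hz)
  obtain ⟨c, hc, hcc⟩ := hnorm τ φ φ' k hτr hττ hφ hφ' hk hfix hkx
  refine isoOn_of_model hinj hr hr' (LinearMap.mulLeft F c) (fun a => ⟨(hc.unit⁻¹ : (AdjoinRoot Q)ˣ) * a, by
      rw [LinearMap.mulLeft_apply, ← mul_assoc, hc.mul_val_inv, one_mul]⟩) (fun a b => ?_)
    (LinearMap.mulLeft F (AdjoinRoot.root Q)) hg hg' (fun a => by simp [mul_left_comm])
  rw [hpair', hpair, hkx, ← hcc, LinearMap.mulLeft_apply, LinearMap.mulLeft_apply, map_mul τ]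
  congr 1
  ring

theorem isSquare_div {F : Type*} [Field F] [Fintype F] {a b : F} (ha : a ≠ 0) (hb : b ≠ 0)
    (hab : IsSquare a ↔ IsSquare b) : IsSquare (a / b) := by
  classical
  rcases eq_or_ne (ringChar F) 2 with h2 | h2
  · exact FiniteField.isSquare_of_char_two h2 _
  rw [← quadraticChar_one_iff_isSquare (div_ne_zero ha hb)]
  have hm : quadraticChar F (a / b) * quadraticChar F b = quadraticChar F a := by
    rw [← map_mul, div_mul_cancel₀ _ hb]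
  by_cases hsa : IsSquare a
  · rw [(quadraticChar_one_iff_isSquare ha).2 hsa, (quadraticChar_one_iff_isSquare hb).2 (hab.1 hsa),
      mul_one] at hm
    exact hm
  · rw [quadraticChar_neg_one_iff_not_isSquare.2 hsa,
      quadraticChar_neg_one_iff_not_isSquare.2 (fun h => hsa (hab.2 h)), mul_neg_one, neg_inj] at hm
    exact hm

theorem IsCyc.lead_ne {s : F} {e : ℕ} (he : 1 ≤ e) {v : V} (hW : IsCyc B g W ((X - C s) ^ e) v) :
    B v (pev g ((X - C s) ^ (e - 1)) v) ≠ 0 := by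
  intro h0
  have hdvd := hW.2.2.2 ((X - C s) ^ (e - 1)) fun r => by
    obtain ⟨r', hr⟩ : X - C s ∣ r - C (r.eval s) := dvd_iff_isRoot.2 (by simp)
    have : (X - C s) ^ (e - 1) * r = r' * (X - C s) ^ e + C (r.eval s) * (X - C s) ^ (e - 1) := by
      rw [show (X - C s) ^ e = (X - C s) ^ (e - 1) * (X - C s) by rw [← pow_succ]; congr 1; omega]
      linear_combination ((X - C s) ^ (e - 1)) * hr
    rw [this, map_add, LinearMap.add_apply, pev_mul, pev_mul, hW.2.2.1, map_zero, zero_add, pev_C, map_smul, h0,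
      smul_zero]
  have h1 := natDegree_le_of_dvd hdvd (pow_ne_zero _ (X_sub_C_ne_zero s))
  rw [natDegree_pow, natDegree_pow, natDegree_X_sub_C] at h1
  omega

variable [Fintype F]

theorem cyc_reg_iso (h : FormAut δ B g) (h' : FormAut δ B' g') {P : F[X]} (hP : SelfDual P)
    (h1 : P.eval 1 ≠ 0) (h1' : P.eval (-1) ≠ 0) (e : ℕ) {v : V} {v' : V'}
    (hW : IsCyc B g W (P ^ e) v) (hW' : IsCyc B' g' W' (P ^ e) v') : IsoOn B g W B' g' W' :=
  isoOn_of_factor h h' (hP.pow e) hW hW' fun _ _ _ _ hτr hττ _ _ hk hfix _ =>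
    exists_norm_bar hP h1 h1' e hτr hττ hk hfix

theorem cyc_linear_iso (h2 : (2 : F) ≠ 0) (h : FormAut δ B g) (h' : FormAut δ B' g') {s : F}
    (hs : s = 1 ∨ s = -1) {e : ℕ} (he : 1 ≤ e) {v : V} {v' : V'}
    (hW : IsCyc B g W ((X - C s) ^ e) v) (hW' : IsCyc B' g' W' ((X - C s) ^ e) v')
    (hsq : IsSquare (B v (pev g ((X - C s) ^ (e - 1)) v)) ↔
      IsSquare (B' v' (pev g' ((X - C s) ^ (e - 1)) v'))) : IsoOn B g W B' g' W' := by
  refine isoOn_of_factor h h' ((selfDual_X_sub_C hs).pow e) hW hW' fun τ φ φ' k hτr _ hφ hφ' hk hfix hkx => ?_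
  obtain ⟨k0, c, hk0, hc, rfl⟩ := exists_norm_bar_linear h2 s he hk hfix
  set E1 := AdjoinRoot.mk ((X - C s) ^ e) ((X - C s) ^ (e - 1))
  obtain ⟨p, hp⟩ := AdjoinRoot.mk_surjective c
  have hlead : φ E1 = k0 * (p.eval s * p.eval s) * φ' E1 := by
    rw [hkx, mul_assoc, ← hp, mul_assoc (AdjoinRoot.mk _ p), tau_mul_socle hs he hτr, mul_smul_comm,
      socle_mul s he, smul_smul, ← Algebra.smul_def, smul_smul, map_smul, smul_eq_mul]
  rw [hφ, hφ'] at hlead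
  have hne := hW.lead_ne he
  have hne' := hW'.lead_ne he
  have hp0 : p.eval s * p.eval s ≠ 0 := fun h0 => hne (by rw [hlead, h0, mul_zero, zero_mul])
  have hq := isSquare_div hne hne' hsq
  rw [hlead, mul_div_cancel_right₀ _ hne'] at hq
  obtain ⟨r, hr⟩ : IsSquare k0 := by
    obtain ⟨t, ht⟩ := hq
    refine ⟨t / p.eval s, ?_⟩
    rw [div_mul_div_comm, eq_div_iff hp0, ht]
  have hr0 : r ≠ 0 := fun h0 => hk0 (by rw [hr, h0, mul_zero])
  refine ⟨algebraMap F _ r * c, (hr0.isUnit.map _).mul hc, ?_⟩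
  rw [map_mul τ, τ.commutes, hr, map_mul]
  ring

/-- the ring model of a double piece -/
theorem IsDbl.model (h2 : (2 : F) ≠ 0) (h : FormAut δ B g) {s : F} (hs : s = 1 ∨ s = -1) {e : ℕ} (he : 1 ≤ e)
    (hsign : δ * (-1) ^ (e - 1) = -1) {v w : V} (hW : IsDbl B g W s e v w)
    {τ : AdjoinRoot ((X - C s) ^ e) →ₐ[F] AdjoinRoot ((X - C s) ^ e)}
    (hτr : τ (AdjoinRoot.root ((X - C s) ^ e)) * AdjoinRoot.root ((X - C s) ^ e) = 1)
    (hττ : ∀ a, τ (τ a) = a) :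
    ∃ ρ : AdjoinRoot ((X - C s) ^ e) × AdjoinRoot ((X - C s) ^ e) →ₗ[F] V,
      Function.Injective ρ ∧ LinearMap.range ρ = W ∧
      (∀ x, g (ρ x) = ρ (AdjoinRoot.root ((X - C s) ^ e) • x)) ∧
      (∀ (a : AdjoinRoot ((X - C s) ^ e)) x y, B (ρ (a • x)) (ρ y) = B (ρ x) (ρ (τ a • y))) ∧
      ∀ (p r p' r' : F[X]), B (ρ (AdjoinRoot.mk _ p, AdjoinRoot.mk _ r))
        (ρ ((AdjoinRoot.mk ((X - C s) ^ e) ((X - C s) ^ (e - 1))) • (AdjoinRoot.mk _ p', AdjoinRoot.mk _ r'))) =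
        (p.eval s * r'.eval s - r.eval s * p'.eval s) * B v (pev g ((X - C s) ^ (e - 1)) w) := by
  obtain ⟨h1, h2', h3, h4, hL⟩ := hW
  have hQ : SelfDual ((X - C s) ^ e) := (selfDual_X_sub_C hs).pow e
  obtain ⟨ρv, φv, hρv, hφv, hpv, hgv, hsv⟩ := exists_rho h hQ hτr v h3
  obtain ⟨ρw, φw, hρw, hφw, hpw, hgw, hsw⟩ := exists_rho h hQ hτr w h4
  have hvw := rho_pair h hτr hρv hgv hgw
  have hwv := rho_pair h hτr hρw hgw hgv
  set ρ := ρv.coprod ρw with hρdef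
  have hadj : ∀ (a : AdjoinRoot ((X - C s) ^ e)) x y, B (ρ (a • x)) (ρ y) = B (ρ x) (ρ (τ a • y)) := by
    intro a x y
    simp only [hρdef, LinearMap.coprod_apply, Prod.smul_fst, Prod.smul_snd, smul_eq_mul, map_add,
      LinearMap.add_apply]
    rw [hpv, hpv, hpw, hpw, hvw, hvw, hwv, hwv]
    simp only [map_mul]
    ring_nf
  set E1 := AdjoinRoot.mk ((X - C s) ^ e) ((X - C s) ^ (e - 1)) with hE1
  set L := B v (pev g ((X - C s) ^ (e - 1)) w) with hLdef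
  have hφ0 : ∀ (ψ : AdjoinRoot ((X - C s) ^ e) →ₗ[F] F), (∀ a, ψ (τ a) = δ * ψ a) → ψ E1 = 0 := by
    intro ψ hψ
    have h1 := hψ E1
    rw [tau_socle hs he hτr, map_smul, smul_eq_mul] at h1
    have h3 : δ * δ = 1 := by rcases h.sign with hd | hd <;> rw [hd] <;> simp
    have h4 : (2 : F) * ψ E1 = 0 := by linear_combination ((-1 : F) * δ) * h1 - (ψ E1) * h3 + (ψ E1) * hsign
    exact (mul_eq_zero.1 h4).resolve_left h2
  have hE : ∀ p : F[X], E1 * AdjoinRoot.mk ((X - C s) ^ e) p = p.eval s • E1 := fun p => by rw [mul_comm]; exact socle_mul s he p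
  have hTE : ∀ p : F[X], τ (AdjoinRoot.mk ((X - C s) ^ e) p) * E1 = p.eval s • E1 := tau_mul_socle hs he hτr
  have hvE : ∀ (p r : F[X]), B (ρv (AdjoinRoot.mk ((X - C s) ^ e) p)) (ρw (E1 * AdjoinRoot.mk ((X - C s) ^ e) r)) = p.eval s * r.eval s * L := by
    intro p r
    rw [hvw, hE, mul_smul_comm, hTE, smul_smul, map_smul, map_smul, smul_eq_mul, hρw, ← hLdef]
    ring
  have hwE : ∀ (p r : F[X]), B (ρw (AdjoinRoot.mk ((X - C s) ^ e) p)) (ρv (E1 * AdjoinRoot.mk ((X - C s) ^ e) r)) = -(p.eval s * r.eval s * L) := by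
    intro p r
    have hτE : τ E1 = ((-1 : F) ^ (e - 1)) • E1 := tau_socle hs he hτr
    have e1 : τ (E1 * AdjoinRoot.mk ((X - C s) ^ e) r) * AdjoinRoot.mk ((X - C s) ^ e) p = ((-1 : F) ^ (e - 1) * (r.eval s * p.eval s)) • E1 := by
      rw [map_mul, hτE, smul_mul_assoc, smul_mul_assoc, mul_comm E1 (τ _), hTE, smul_mul_assoc, hE, smul_smul,
        smul_smul]
      ring_nf
    rw [h.symm, hvw, e1, map_smul, map_smul, smul_eq_mul, hρw, ← hLdef]
    linear_combination (r.eval s * p.eval s * L) * hsign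
  have hval : ∀ p r p' r' : F[X], B (ρ (AdjoinRoot.mk ((X - C s) ^ e) p, AdjoinRoot.mk ((X - C s) ^ e) r))
      (ρ (E1 • (AdjoinRoot.mk ((X - C s) ^ e) p', AdjoinRoot.mk ((X - C s) ^ e) r'))) =
        (p.eval s * r'.eval s - r.eval s * p'.eval s) * L := by
    intro p r p' r'
    simp only [hρdef, LinearMap.coprod_apply, Prod.smul_fst, Prod.smul_snd, smul_eq_mul, map_add,
      LinearMap.add_apply]
    rw [hvE, hwE, hpv, hpw, hE, mul_smul_comm, hTE, hE, mul_smul_comm, hTE]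
    simp only [map_smul, smul_eq_mul, hφ0 φv hsv, hφ0 φw hsw]
    ring
  refine ⟨ρ, ?_, ?_, fun x => ?_, hadj, hval⟩
  · rw [← LinearMap.ker_eq_bot, LinearMap.ker_eq_bot']
    by_contra hc
    push Not at hc
    obtain ⟨x, hx, hx0⟩ := hc
    -- move a kernel vector into the socle
    have hker : ∀ a : AdjoinRoot ((X - C s) ^ e), ∀ y, B (ρ (a • x)) (ρ y) = 0 := fun a y => by rw [hadj, hx]; simp
    set ε := AdjoinRoot.mk ((X - C s) ^ e) (X - C s)
    have hnil : ε ^ e • x = 0 := by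
      rw [show ε ^ e = 0 by rw [← map_pow, AdjoinRoot.mk_self], zero_smul]
    classical
    have hex : ∃ j : ℕ, ε ^ j • x = 0 := ⟨e, hnil⟩
    let j := Nat.find hex
    have hj : ε ^ j • x = 0 := Nat.find_spec hex
    have hj0 : 0 < j := Nat.pos_of_ne_zero fun h0 => hx0 (by rwa [h0, pow_zero, one_smul] at hj)
    have hy0 : ε ^ (j - 1) • x ≠ 0 := Nat.find_min hex (show j - 1 < j by omega)
    have hεy : ε • (ε ^ (j - 1) • x) = 0 := by rw [smul_smul, ← pow_succ', Nat.sub_add_cancel hj0, hj]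
    have hsoc : ∀ a : AdjoinRoot ((X - C s) ^ e), ε * a = 0 → ∃ p : F[X], E1 * AdjoinRoot.mk ((X - C s) ^ e) p = a := by
      intro a ha
      obtain ⟨p, rfl⟩ := AdjoinRoot.mk_surjective a
      rw [← map_mul, AdjoinRoot.mk_eq_zero] at ha
      have hee : (X - C s) ^ e = (X - C s) * (X - C s) ^ (e - 1) := by rw [← pow_succ']; congr 1; omega
      rw [hee] at ha
      obtain ⟨r, hr⟩ := (mul_dvd_mul_iff_left (X_sub_C_ne_zero s)).1 ha
      exact ⟨r, by rw [← map_mul, hr]⟩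
    obtain ⟨p1, hp1⟩ := hsoc _ (congrArg Prod.fst hεy)
    obtain ⟨r1, hr1⟩ := hsoc _ (congrArg Prod.snd hεy)
    have hy : E1 • ((AdjoinRoot.mk ((X - C s) ^ e) p1, AdjoinRoot.mk ((X - C s) ^ e) r1)) = ε ^ (j - 1) • x :=
      Prod.ext hp1 hr1
    have ev1 : ∀ p r : F[X], (p.eval s * r1.eval s - r.eval s * p1.eval s) * L = 0 := fun p r => by
      rw [← hval, hy, h.symm, hker, mul_zero]
    have hr10 : r1.eval s = 0 := by simpa [hL] using ev1 1 0
    have hp10 : p1.eval s = 0 := by simpa [hL] using ev1 0 1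
    refine hy0 (hy ▸ Prod.ext ?_ ?_) <;> simp [hE, hp10, hr10]
  · ext x
    constructor
    · rintro ⟨⟨a, b⟩, rfl⟩
      obtain ⟨p, rfl⟩ := AdjoinRoot.mk_surjective a
      obtain ⟨r, rfl⟩ := AdjoinRoot.mk_surjective b
      rw [hρdef, LinearMap.coprod_apply, hρv, hρw]
      exact h1 p r
    · intro hx
      obtain ⟨p, r, rfl⟩ := h2' x hx
      exact ⟨(AdjoinRoot.mk ((X - C s) ^ e) p, AdjoinRoot.mk ((X - C s) ^ e) r), by rw [hρdef, LinearMap.coprod_apply, hρv, hρw]⟩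
  · simp only [hρdef, LinearMap.coprod_apply, Prod.smul_fst, Prod.smul_snd, smul_eq_mul, map_add, hgv, hgw]

end Cfsg.Agent.CN9
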