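import Cfsg.Agent.ClassNum9.KerDim
import Cfsg.Agent.Forms59.Hilbert90

/-!
The rings `F[X]/(P^e)` of self-dual polynomials with their involution, for forms of odd characteristic.
-/

set_option autoImplicit false

namespace Cfsg.Agent.CN9

open Polynomial Cfsg.Agent.GLSemi

universe u

variable {F : Type u} [Field F]

/-- self-dual monic polynomial with nonzero constant term -/
def SelfDual (P : F[X]) : Prop := P.Monic ∧ P.coeff 0 ≠ 0 ∧ dual (RingHom.id F) P = P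

theorem SelfDual.reverse_eq {P : F[X]} (h : SelfDual P) : P.reverse = C (P.coeff 0) * P := by
  have h1 := h.2.2
  rw [dual, RingHom.id_apply, Polynomial.map_id] at h1
  calc P.reverse = C (P.coeff 0) * (C (P.coeff 0)⁻¹ * P.reverse) := by
        rw [← mul_assoc, ← C_mul, mul_inv_cancel₀ h.2.1, C_1, one_mul]
    _ = _ := by rw [h1]

theorem SelfDual.mul {P Q : F[X]} (h : SelfDual P) (h' : SelfDual Q) : SelfDual (P * Q) :=
  ⟨h.1.mul h'.1, by rw [mul_coeff_zero]; exact mul_ne_zero h.2.1 h'.2.1, by rw [dual_mul, h.2.2, h'.2.2]⟩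

theorem selfDual_one : SelfDual (1 : F[X]) :=
  ⟨monic_one, by simp, by rw [dual, reverse, natDegree_one, reflect_one]; simp⟩

theorem SelfDual.pow {P : F[X]} (h : SelfDual P) : ∀ e : ℕ, SelfDual (P ^ e)
  | 0 => by rw [pow_zero]; exact selfDual_one
  | e + 1 => by rw [pow_succ]; exact (h.pow e).mul h

/-- the involution inverting the root -/
theorem exists_bar {Q : F[X]} (hQ : SelfDual Q) :
    ∃ τ : AdjoinRoot Q →ₐ[F] AdjoinRoot Q,
      τ (AdjoinRoot.root Q) * AdjoinRoot.root Q = 1 ∧ ∀ a, τ (τ a) = a := by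
  have hroot : aeval (AdjoinRoot.root Q) Q = 0 := by rw [AdjoinRoot.aeval_eq, AdjoinRoot.mk_self]
  have hu : IsUnit (AdjoinRoot.root Q) := by
    have h : aeval (AdjoinRoot.root Q) (X * Q.divX + C (Q.coeff 0)) = 0 := by rw [X_mul_divX_add]; exact hroot
    rw [map_add, map_mul, aeval_X, aeval_C, add_eq_zero_iff_eq_neg] at h
    refine IsUnit.of_mul_eq_one (aeval (AdjoinRoot.root Q) Q.divX * -(algebraMap F (AdjoinRoot Q) (Q.coeff 0)⁻¹)) ?_
    rw [← mul_assoc, h, neg_mul_neg, ← map_mul, mul_inv_cancel₀ hQ.2.1, map_one]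
  obtain ⟨u, hu⟩ := hu
  have hinv : aeval ((u⁻¹ : (AdjoinRoot Q)ˣ) : AdjoinRoot Q) Q = 0 := by
    have h := aeval_reverse (F := F) u Q
    rw [hQ.reverse_eq, map_mul, hu, hroot, mul_zero] at h
    exact ((hu ▸ u.isUnit).pow Q.natDegree).mul_left_eq_zero.1 h.symm
  let τ : AdjoinRoot Q →ₐ[F] AdjoinRoot Q := AdjoinRoot.liftAlgHom Q (Algebra.ofId F (AdjoinRoot Q))
    ((u⁻¹ : (AdjoinRoot Q)ˣ) : AdjoinRoot Q) hinv
  have hτ : τ (AdjoinRoot.root Q) = ((u⁻¹ : (AdjoinRoot Q)ˣ) : AdjoinRoot Q) := by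
    exact AdjoinRoot.liftAlgHom_root _ _ _ _
  refine ⟨τ, by rw [hτ, ← hu, Units.inv_mul], fun a => ?_⟩
  have hττ : τ.comp τ = AlgHom.id F (AdjoinRoot Q) := by
    refine AdjoinRoot.algHom_ext ?_
    show τ (τ (AdjoinRoot.root Q)) = AdjoinRoot.root Q
    rw [hτ]
    have h1 : τ ((u⁻¹ : (AdjoinRoot Q)ˣ) : AdjoinRoot Q) * τ (AdjoinRoot.root Q) = 1 := by
      rw [← map_mul, ← hu, Units.inv_mul, map_one]
    rw [hτ] at h1
    calc τ ((u⁻¹ : (AdjoinRoot Q)ˣ) : AdjoinRoot Q)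
        = τ ((u⁻¹ : (AdjoinRoot Q)ˣ) : AdjoinRoot Q) * (((u⁻¹ : (AdjoinRoot Q)ˣ) : AdjoinRoot Q) * u) := by
          rw [Units.inv_mul, mul_one]
      _ = AdjoinRoot.root Q := by rw [← mul_assoc, h1, one_mul, hu]
  exact DFunLike.congr_fun hττ a

/-- a functional with no nonzero ideal in its kernel -/
def NdF {A : Type*} [CommRing A] [Algebra F A] (φ : A →ₗ[F] F) : Prop := ∀ a, (∀ b, φ (a * b) = 0) → a = 0

theorem exists_factor {A : Type*} [CommRing A] [Algebra F A] [FiniteDimensional F A] {φ φ' : A →ₗ[F] F}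
    (hφ : NdF φ) (hφ' : NdF φ') : ∃ h : A, IsUnit h ∧ ∀ x, φ' x = φ (h * x) := by
  let T : A →ₗ[F] Module.Dual F A :=
    { toFun := fun a => φ.comp (LinearMap.mulLeft F a)
      map_add' := fun a b => LinearMap.ext fun x => by simp [add_mul]
      map_smul' := fun c a => LinearMap.ext fun x => by simp }
  have hinj : Function.Injective T := by
    rw [← LinearMap.ker_eq_bot, LinearMap.ker_eq_bot']
    exact fun a ha => hφ a fun b => LinearMap.congr_fun ha b
  have hsur : Function.Surjective T :=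
    (LinearMap.injective_iff_surjective_of_finrank_eq_finrank Subspace.dual_finrank_eq.symm).1 hinj
  obtain ⟨h, hh⟩ := hsur φ'
  have hx : ∀ x, φ' x = φ (h * x) := fun x => (LinearMap.congr_fun hh x).symm
  refine ⟨h, ?_, hx⟩
  have hmul : Function.Injective (LinearMap.mulLeft F h) := by
    rw [← LinearMap.ker_eq_bot, LinearMap.ker_eq_bot']
    intro b hb
    refine hφ' b fun c => ?_
    rw [hx, ← mul_assoc, show h * b = 0 from hb, zero_mul, map_zero]
  obtain ⟨c, hc⟩ := LinearMap.injective_iff_surjective.1 hmul 1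
  exact IsUnit.of_mul_eq_one c hc

/-- unipotent elements are squares of their powers in odd characteristic -/
theorem exists_sqrt {A : Type*} [Ring A] [Algebra F A] [Finite F] (h2 : (2 : F) ≠ 0) {x : A}
    (hx : IsNilpotent (x - 1)) : ∃ m : ℕ, (x ^ m) * (x ^ m) = x := by
  obtain ⟨p, hp⟩ := CharP.exists F
  haveI : Fact p.Prime := ⟨CharP.char_is_prime F p⟩
  rcases subsingleton_or_nontrivial A with h | h
  · exact ⟨0, Subsingleton.elim _ _⟩
  haveI : CharP A p := charP_of_injective_algebraMap (algebraMap F A).injective p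
  obtain ⟨N, hN⟩ := hx
  have hk : x ^ p ^ N = 1 := by
    have h1 : (x - 1) ^ p ^ N = 0 := pow_eq_zero_of_le (Nat.lt_pow_self (Fact.out : p.Prime).one_lt).le hN
    rw [sub_pow_char_pow_of_commute _ _ (Commute.one_right x), one_pow, sub_eq_zero] at h1
    exact h1
  have hodd : Odd (p ^ N) := by
    refine ((Fact.out : p.Prime).odd_of_ne_two fun he => h2 ?_).pow
    subst he
    exact CharP.cast_eq_zero F 2
  obtain ⟨t, ht⟩ := hodd
  refine ⟨t + 1, ?_⟩
  rw [← pow_add, show t + 1 + (t + 1) = p ^ N + 1 by omega, pow_succ, hk, one_mul]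

theorem isUnit_mk {Q p : F[X]} (h : IsCoprime p Q) : IsUnit (AdjoinRoot.mk Q p) := by
  obtain ⟨a, b, hab⟩ := h
  refine IsUnit.of_mul_eq_one (AdjoinRoot.mk Q a) ?_
  rw [← map_mul, ← map_one (AdjoinRoot.mk Q), AdjoinRoot.mk_eq_mk]
  exact ⟨-b, by linear_combination hab⟩

theorem isUnit_mk_X_sub_C {P : F[X]} {s : F} (hs : P.eval s ≠ 0) (e : ℕ) :
    IsUnit (AdjoinRoot.mk (P ^ e) (X - C s)) := by
  refine isUnit_mk (IsCoprime.pow_right ?_)
  exact (irreducible_X_sub_C s).coprime_iff_not_dvd.2 fun h => hs (dvd_iff_isRoot.1 h)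

/-- norms are surjective away from `±1` -/
theorem exists_norm_bar [Finite F] {P : F[X]} (hP : SelfDual P) (h1 : P.eval 1 ≠ 0) (h1' : P.eval (-1) ≠ 0) (e : ℕ)
    {τ : AdjoinRoot (P ^ e) →ₐ[F] AdjoinRoot (P ^ e)} (hτr : τ (AdjoinRoot.root (P ^ e)) * AdjoinRoot.root (P ^ e) = 1)
    (hττ : ∀ a, τ (τ a) = a) {h : AdjoinRoot (P ^ e)} (hu : IsUnit h) (hfix : τ h = h) :
    ∃ c, IsUnit c ∧ c * τ c = h := by
  haveI : Module.Finite F (AdjoinRoot (P ^ e)) := (AdjoinRoot.powerBasis' (hP.1.pow e)).finite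
  haveI : Finite (AdjoinRoot (P ^ e)) := Module.finite_of_finite F
  refine Forms59.exists_norm_eq_finite τ.toRingHom hττ (AdjoinRoot.root (P ^ e)) ?_ h hu hfix
  have hmul : (AdjoinRoot.root (P ^ e) - τ (AdjoinRoot.root (P ^ e))) * AdjoinRoot.root (P ^ e) =
      AdjoinRoot.mk (P ^ e) (X - C 1) * AdjoinRoot.mk (P ^ e) (X - C (-1)) := by
    rw [sub_mul, hτr, map_sub, map_sub, AdjoinRoot.mk_X, AdjoinRoot.mk_C, AdjoinRoot.mk_C, map_neg, map_one]
    ring
  exact isUnit_of_mul_isUnit_left (hmul ▸ (isUnit_mk_X_sub_C h1 e).mul (isUnit_mk_X_sub_C h1' e))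

/-- units at a linear polynomial are a constant times a norm -/
theorem exists_norm_bar_linear [Finite F] (h2 : (2 : F) ≠ 0) (s : F) {e : ℕ} (he : 1 ≤ e)
    {τ : AdjoinRoot ((X - C s) ^ e) →ₐ[F] AdjoinRoot ((X - C s) ^ e)}
    {h : AdjoinRoot ((X - C s) ^ e)} (hu : IsUnit h) (hfix : τ h = h) :
    ∃ (k : F) (c : AdjoinRoot ((X - C s) ^ e)), k ≠ 0 ∧ IsUnit c ∧ h = algebraMap F _ k * (c * τ c) := by
  obtain ⟨p, rfl⟩ := AdjoinRoot.mk_surjective h
  obtain ⟨r, hr⟩ : X - C s ∣ p - C (p.eval s) := dvd_iff_isRoot.2 (by simp)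
  have hε : IsNilpotent (AdjoinRoot.mk ((X - C s) ^ e) (X - C s)) :=
    ⟨e, by rw [← map_pow, AdjoinRoot.mk_self]⟩
  have hk : p.eval s ≠ 0 := by
    intro h0
    rw [h0, C_0, sub_zero] at hr
    have : Nontrivial (AdjoinRoot ((X - C s) ^ e)) := AdjoinRoot.nontrivial _ (by
      rw [degree_pow, degree_X_sub_C]; simpa using fun h => absurd h (by omega : e ≠ 0))
    refine not_isUnit_zero (M₀ := AdjoinRoot ((X - C s) ^ e)) ?_
    obtain ⟨N, hN⟩ := hε
    have h1 := hu.pow N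
    rwa [hr, map_mul, mul_pow, hN, zero_mul] at h1
  set k := p.eval s
  set A := AdjoinRoot ((X - C s) ^ e)
  let x : A := algebraMap F A k⁻¹ * AdjoinRoot.mk _ p
  have hx : IsNilpotent (x - 1) := by
    have he : x - 1 = AdjoinRoot.mk _ (X - C s) * (algebraMap F A k⁻¹ * AdjoinRoot.mk _ r) := by
      have h1 : (1 : A) = algebraMap F A k⁻¹ * AdjoinRoot.mk _ (C k) := by
        rw [AdjoinRoot.mk_C, ← AdjoinRoot.algebraMap_eq, ← map_mul, inv_mul_cancel₀ hk, map_one]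
      rw [show x - 1 = algebraMap F A k⁻¹ * AdjoinRoot.mk _ p - algebraMap F A k⁻¹ * AdjoinRoot.mk _ (C k) by
        rw [← h1], ← mul_sub, ← map_sub, hr, map_mul]
      ring
    rw [he]
    exact Commute.isNilpotent_mul_right (Commute.all _ _) hε
  obtain ⟨m, hm⟩ := exists_sqrt h2 hx
  refine ⟨k, x ^ m, hk, ?_, ?_⟩
  · refine IsUnit.pow m ((IsUnit.map _ (inv_ne_zero hk).isUnit).mul hu)
  · rw [map_pow, show τ x = x by rw [map_mul, τ.commutes, hfix], hm, ← mul_assoc, ← map_mul,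
      mul_inv_cancel₀ hk, map_one, one_mul]

/-- the socle of a primary part lies in every nonzero ideal -/
theorem exists_socle {f Q p : F[X]} (hf : Irreducible f) (e : ℕ) (hp : ¬ f ^ e ∣ p) :
    ∃ r, AdjoinRoot.mk ((f * Q) ^ e) (p * r) = AdjoinRoot.mk ((f * Q) ^ e) (f ^ (e - 1) * Q ^ e) := by
  classical
  have hp0 : p ≠ 0 := fun h => hp (h ▸ dvd_zero _)
  obtain ⟨m, hm, hmf⟩ := (FiniteMultiplicity.of_prime_left hf.prime hp0).exists_eq_pow_mul_and_not_dvd
  set i := multiplicity f p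
  have hi : i < e := by
    by_contra h
    exact hp (hm ▸ dvd_mul_of_dvd_left (pow_dvd_pow f (not_lt.1 h)) m)
  obtain ⟨a, b, hab⟩ := (hf.coprime_iff_not_dvd.2 hmf)
  refine ⟨f ^ (e - 1 - i) * Q ^ e * b, ?_⟩
  rw [AdjoinRoot.mk_eq_mk]
  refine ⟨-a, ?_⟩
  have e1 : f ^ i * f ^ (e - 1 - i) = f ^ (e - 1) := by rw [← pow_add]; congr 1; omega
  have e2 : f ^ (e - 1) * f = f ^ e := by rw [← pow_succ]; congr 1; omega
  rw [hm, mul_pow]
  linear_combination (m * Q ^ e * b) * e1 + (f ^ (e - 1) * Q ^ e) * hab - (a * Q ^ e) * e2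

end Cfsg.Agent.CN9
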