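import Cfsg.Agent.ClassNum9.Iso.Ring

/-!
A linear automorphism preserving a symmetric or alternating form: polynomials in it, cyclic subspaces.
-/

set_option autoImplicit false

namespace Cfsg.Agent.CN9

open Polynomial Module Cfsg.Agent.GLSemi

universe u v

variable {F : Type u} [Field F] {V : Type v} [AddCommGroup V] [Module F V]

/-- a form of sign `δ` invariant under `g` -/
structure FormAut (δ : F) (B : LinearMap.BilinForm F V) (g : V ≃ₗ[F] V) : Prop where
  sign : δ = 1 ∨ δ = -1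
  symm : ∀ x y, B x y = δ * B y x
  inv : ∀ x y, B (g x) (g y) = B x y

/-- polynomials in `g` -/
noncomputable def pev (g : V ≃ₗ[F] V) : F[X] →ₐ[F] Module.End F V := aeval (g : Module.End F V)

/-- polynomials in the inverse of `g` -/
noncomputable def pev' (g : V ≃ₗ[F] V) : F[X] →ₐ[F] Module.End F V := aeval (g.symm : Module.End F V)

theorem pev_X (g : V ≃ₗ[F] V) (x : V) : pev g X x = g x := by simp [pev]

theorem pev_mul (g : V ≃ₗ[F] V) (p r : F[X]) (x : V) : pev g (p * r) x = pev g p (pev g r x) := by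
  rw [map_mul]; rfl

theorem pev_comm (g : V ≃ₗ[F] V) (p r : F[X]) (x : V) : pev g p (pev g r x) = pev g r (pev g p x) := by
  rw [← pev_mul, mul_comm, pev_mul]

theorem pev_C (g : V ≃ₗ[F] V) (c : F) (x : V) : pev g (C c) x = c • x := by simp [pev]

theorem pev_mem {g : V ≃ₗ[F] V} {U : Submodule F V} (hU : ∀ x ∈ U, g x ∈ U) :
    ∀ (p : F[X]), ∀ x ∈ U, pev g p x ∈ U := by
  intro p
  induction p using Polynomial.induction_on with
  | C c => intro x hx; rw [pev_C]; exact U.smul_mem c hx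
  | add p r hp hr => intro x hx; rw [map_add, LinearMap.add_apply]; exact U.add_mem (hp x hx) (hr x hx)
  | monomial k c ih =>
    intro x hx
    rw [pow_succ, ← mul_assoc, pev_mul, pev_X]
    exact ih _ (hU x hx)

/-- the reverse polynomial -/
theorem pev_reverse (g : V ≃ₗ[F] V) (p : F[X]) (y : V) :
    pev g p.reverse y = pev' g p (pev g (X ^ p.natDegree) y) := by
  let u : (Module.End F V)ˣ := ⟨(g : Module.End F V), (g.symm : Module.End F V),
    LinearMap.ext fun x => g.apply_symm_apply x, LinearMap.ext fun x => g.symm_apply_apply x⟩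
  have h := aeval_reverse (F := F) u p
  show aeval (u : Module.End F V) p.reverse y = _
  rw [h, Module.End.mul_apply]
  congr 1
  simp [pev, u]

variable {δ : F} {B : LinearMap.BilinForm F V} {g : V ≃ₗ[F] V}

theorem FormAut.sign_ne (h : FormAut δ B g) : δ ≠ 0 := by
  rcases h.sign with h | h <;> rw [h] <;> simp

theorem FormAut.adjoint (h : FormAut δ B g) :
    ∀ (p : F[X]) (x y : V), B (pev g p x) y = B x (pev' g p y) := by
  intro p
  induction p using Polynomial.induction_on with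
  | C c => intro x y; simp [pev, pev']
  | add p r hp hr => intro x y; simp [map_add, hp, hr]
  | monomial k c ih =>
    intro x y
    rw [pow_succ, ← mul_assoc, pev_mul, ih, pev_X]
    conv_rhs => rw [mul_comm, map_mul, Module.End.mul_apply]
    have hX : pev' g X = (g.symm : Module.End F V) := by simp [pev']
    rw [hX, LinearEquiv.coe_coe, ← h.inv x (g.symm _), g.apply_symm_apply]

theorem FormAut.adjoint_reverse (h : FormAut δ B g) (p : F[X]) (x y : V) :
    B (pev g p x) (pev g (X ^ p.natDegree) y) = B x (pev g p.reverse y) := by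
  rw [h.adjoint, pev_reverse]

/-- nondegenerate on a subspace -/
def NdOn (B : LinearMap.BilinForm F V) (U : Submodule F V) : Prop :=
  ∀ x ∈ U, (∀ y ∈ U, B x y = 0) → x = 0

/-- an invariant nondegenerate subspace has a self-dual annihilating polynomial -/
theorem exists_annihilator [FiniteDimensional F V] (h : FormAut δ B g) {U : Submodule F V}
    (hU : ∀ x ∈ U, g x ∈ U) (hnd : NdOn B U) :
    ∃ μ : F[X], SelfDual μ ∧ (∀ x ∈ U, pev g μ x = 0) ∧ ∀ p, (∀ x ∈ U, pev g p x = 0) → μ ∣ p := by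
  classical
  let I : Submodule F[X] F[X] :=
    { carrier := {p | ∀ x ∈ U, pev g p x = 0}
      add_mem' := fun {a b} ha hb x hx => by rw [map_add, LinearMap.add_apply, ha x hx, hb x hx, add_zero]
      zero_mem' := fun x _ => by simp
      smul_mem' := fun c p hp x hx => by
        rw [smul_eq_mul, pev_mul, hp x hx, map_zero] }
  have hI0 : (g : Module.End F V).charpoly ∈ I := fun x _ => by
    show aeval (g : Module.End F V) _ x = 0
    rw [LinearMap.aeval_self_charpoly]
    rfl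
  obtain ⟨a, ha⟩ := IsPrincipalIdealRing.principal I
  have ha0 : a ≠ 0 := by
    rintro rfl
    rw [ha, Submodule.span_singleton_eq_bot.2 rfl, Submodule.mem_bot] at hI0
    exact (LinearMap.charpoly_monic (g : Module.End F V)).ne_zero hI0
  set μ := normalize a with hμdef
  have hμm : μ.Monic := monic_normalize ha0
  have hdvd : ∀ p, p ∈ I ↔ μ ∣ p := by
    intro p
    rw [ha, Submodule.mem_span_singleton, hμdef, normalize_dvd_iff]
    exact ⟨fun ⟨c, hc⟩ => ⟨c, by rw [← hc, smul_eq_mul, mul_comm]⟩, fun ⟨c, hc⟩ => ⟨c, by rw [hc, smul_eq_mul, mul_comm]⟩⟩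
  have hμ0 : μ.coeff 0 ≠ 0 := by
    intro h0
    obtain ⟨r, hr⟩ := X_dvd_iff.2 h0
    have hrI : r ∈ I := fun x hx => g.injective (by
      rw [map_zero, ← pev_X g (pev g r x), ← pev_mul, ← hr]
      exact (hdvd μ).2 dvd_rfl x hx)
    obtain ⟨c, hc⟩ := (hdvd r).1 hrI
    have hne : r ≠ 0 := fun he => hμm.ne_zero (by rw [hr, he, mul_zero])
    have h1 := congrArg Polynomial.natDegree hr
    rw [natDegree_mul X_ne_zero hne, natDegree_X] at h1
    have h2 := natDegree_le_of_dvd ⟨c, hc⟩ hne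
    omega
  have hrev : μ.reverse ∈ I := fun y hy => hnd _ (pev_mem hU _ y hy) fun x hx => by
    rw [h.symm, ← h.adjoint_reverse, (hdvd μ).2 dvd_rfl x hx]
    simp
  have hd : dual (RingHom.id F) μ = μ := by
    have h1 : μ ∣ dual (RingHom.id F) μ := by
      rw [dual, RingHom.id_apply, Polynomial.map_id]
      exact dvd_mul_of_dvd_right ((hdvd _).1 hrev) _
    exact (eq_of_monic_of_dvd_of_natDegree_le hμm (monic_dual _ hμ0) h1
      (natDegree_dual (RingHom.id F) hμ0).le)
  exact ⟨μ, ⟨hμm, hμ0, hd⟩, (hdvd μ).2 dvd_rfl, fun p hp => (hdvd p).1 hp⟩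

/-- pairing two vectors -/
theorem rho_pair (h : FormAut δ B g) {Q : F[X]}
    {τ : AdjoinRoot Q →ₐ[F] AdjoinRoot Q} (hτr : τ (AdjoinRoot.root Q) * AdjoinRoot.root Q = 1)
    {ρ ρ' : AdjoinRoot Q →ₗ[F] V} {v : V} (hρ : ∀ p, ρ (AdjoinRoot.mk Q p) = pev g p v)
    (hg : ∀ a, g (ρ a) = ρ (AdjoinRoot.root Q * a)) (hg' : ∀ a, g (ρ' a) = ρ' (AdjoinRoot.root Q * a)) :
    ∀ a b, B (ρ a) (ρ' b) = B v (ρ' (τ a * b)) := by
  intro a
  obtain ⟨p, rfl⟩ := AdjoinRoot.mk_surjective a
  induction p using Polynomial.induction_on with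
  | C c =>
    intro b
    rw [hρ, pev_C, AdjoinRoot.mk_C, ← AdjoinRoot.algebraMap_eq, τ.commutes, ← Algebra.smul_def, map_smul,
      map_smul, map_smul, LinearMap.smul_apply]
  | add p r hp hr =>
    intro b
    rw [map_add, map_add, LinearMap.map_add₂, hp, hr, map_add, add_mul, map_add, map_add]
  | monomial k c ih =>
    intro b
    rw [pow_succ, ← mul_assoc, map_mul (AdjoinRoot.mk Q) (C c * X ^ k) X, AdjoinRoot.mk_X,
      mul_comm _ (AdjoinRoot.root Q), ← hg, map_mul τ, mul_comm (τ (AdjoinRoot.root Q)), mul_assoc, ← ih,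
      ← h.inv (ρ (AdjoinRoot.mk Q (C c * X ^ k))) (ρ' (τ (AdjoinRoot.root Q) * b)), hg' (τ _ * b), ← mul_assoc,
      mul_comm (AdjoinRoot.root Q) (τ _), hτr, one_mul]

/-- the action of the ring of a self-dual polynomial on a vector it kills -/
theorem exists_rho (h : FormAut δ B g) {Q : F[X]} (hQ : SelfDual Q)
    {τ : AdjoinRoot Q →ₐ[F] AdjoinRoot Q} (hτr : τ (AdjoinRoot.root Q) * AdjoinRoot.root Q = 1)
    (v : V) (hv : pev g Q v = 0) :
    ∃ (ρ : AdjoinRoot Q →ₗ[F] V) (φ : AdjoinRoot Q →ₗ[F] F),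
      (∀ p, ρ (AdjoinRoot.mk Q p) = pev g p v) ∧ (∀ a, φ a = B v (ρ a)) ∧
      (∀ a b, B (ρ a) (ρ b) = φ (τ a * b)) ∧ (∀ a, g (ρ a) = ρ (AdjoinRoot.root Q * a)) ∧
      ∀ a, φ (τ a) = δ * φ a := by
  let ρ : AdjoinRoot Q →ₗ[F] V :=
    (LinearMap.applyₗ v).comp ((pev g).toLinearMap.comp (AdjoinRoot.modByMonicHom hQ.1))
  have hρ : ∀ p, ρ (AdjoinRoot.mk Q p) = pev g p v := by
    intro p
    show pev g (AdjoinRoot.modByMonicHom hQ.1 (AdjoinRoot.mk Q p)) v = _
    rw [AdjoinRoot.modByMonicHom_mk]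
    conv_rhs => rw [← modByMonic_add_div p Q, map_add, LinearMap.add_apply, mul_comm Q (p /ₘ Q), pev_mul, hv,
      map_zero, add_zero]
  have hg : ∀ a, g (ρ a) = ρ (AdjoinRoot.root Q * a) := by
    intro a
    obtain ⟨p, rfl⟩ := AdjoinRoot.mk_surjective a
    rw [← AdjoinRoot.mk_X, ← map_mul, hρ, hρ, pev_mul, pev_X]
  have hpair : ∀ a b, B (ρ a) (ρ b) = B v (ρ (τ a * b)) := rho_pair h hτr hρ hg hg
  refine ⟨ρ, (B v).comp ρ, hρ, fun a => rfl, hpair, hg, fun a => ?_⟩
  show B v (ρ (τ a)) = δ * B v (ρ a)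
  rw [← mul_one (τ a), ← hpair, ← h.symm]
  congr 2
  rw [← map_one (AdjoinRoot.mk Q), hρ]
  simp

end Cfsg.Agent.CN9
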