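import Cfsg.Agent.ClassNum9.Iso.Unique

/-!
Every nondegenerate invariant subspace contains a piece.
-/

set_option autoImplicit false

namespace Cfsg.Agent.CN9

open Polynomial Module Cfsg.Agent.GLSemi

universe u v

variable {F : Type u} [Field F] {V : Type v} [AddCommGroup V] [Module F V]
variable {δ : F} {B : LinearMap.BilinForm F V} {g : V ≃ₗ[F] V}

/-- the labels of pieces -/
def ValidLabel (δ : F) (z : (F[X] × ℕ) × Bool) : Prop :=
  1 ≤ z.1.2 ∧
    ((IsReg z.1.1 ∧ z.2 = false) ∨
      (∃ s : F, (s = 1 ∨ s = -1) ∧ z.1.1 = X - C s ∧ δ * (-1) ^ (z.1.2 - 1) = 1) ∨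
      (∃ s : F, (s = 1 ∨ s = -1) ∧ z.1.1 = (X - C s) ^ 2 ∧ δ * (-1) ^ (z.1.2 - 1) = -1 ∧ z.2 = false))

theorem IsPiece.valid {W : Submodule F V} {z : (F[X] × ℕ) × Bool} (h : IsPiece δ B g W z) : ValidLabel δ z :=
  ⟨h.1, h.2.imp (fun h => ⟨h.1, h.2.1⟩) (Or.imp (fun ⟨s, a, b, c, _⟩ => ⟨s, a, b, c⟩)
    fun ⟨s, a, b, c, d, _⟩ => ⟨s, a, b, c, d⟩)⟩

/-- the cyclic subspace of a vector -/
noncomputable def cycSpan (g : V ≃ₗ[F] V) (v : V) : Submodule F V :=
  LinearMap.range ((LinearMap.applyₗ v).comp (pev g).toLinearMap)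

theorem mem_cycSpan {v x : V} : x ∈ cycSpan g v ↔ ∃ p, pev g p v = x := Iff.rfl

theorem cycSpan_le {v : V} {U : Submodule F V} (hU : ∀ x ∈ U, g x ∈ U) (hv : v ∈ U) : cycSpan g v ≤ U := by
  rintro x ⟨p, rfl⟩
  exact pev_mem hU p v hv

theorem pev_congr {Q p r : F[X]} {v : V} (hv : pev g Q v = 0)
    (h : AdjoinRoot.mk Q p = AdjoinRoot.mk Q r) : pev g p v = pev g r v := by
  obtain ⟨c, hc⟩ := AdjoinRoot.mk_eq_mk.1 h
  have h1 : pev g (p - r) v = 0 := by rw [hc, mul_comm, pev_mul, hv, map_zero]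
  rwa [map_sub, LinearMap.sub_apply, sub_eq_zero] at h1

theorem FormAut.dual_socle (h : FormAut δ B g) {Q : F[X]} (hQ : SelfDual Q) {v : V} (hv : pev g Q v = 0)
    {q : F[X]} (hq0 : q.coeff 0 ≠ 0) (hq : ∀ r, B v (pev g (q * r) v) = 0) (r : F[X]) :
    B v (pev g (dual (RingHom.id F) q * r) v) = 0 := by
  obtain ⟨τ, hτr, hττ⟩ := exists_bar hQ
  obtain ⟨ρ, φ, hρ, hφ, hpair, hg, hsym⟩ := exists_rho h hQ hτr v hv
  have hr : dual (RingHom.id F) q * r = C (q.coeff 0)⁻¹ * (q.reverse * r) := by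
    rw [dual, RingHom.id_apply, Polynomial.map_id, mul_assoc]
  rw [hr, pev_mul, pev_C, map_smul, pev_mul g q.reverse, ← h.adjoint_reverse, ← pev_mul, ← hρ, ← hρ, h.symm, hpair,
    hφ]
  obtain ⟨a, ha⟩ := AdjoinRoot.mk_surjective (τ (AdjoinRoot.mk Q (X ^ q.natDegree * r)))
  rw [← ha, ← map_mul, mul_comm a q, hρ, hq, mul_zero, smul_zero]

theorem isCyc_irreducible (h : FormAut δ B g) {f : F[X]} (hf : Irreducible f) {e : ℕ} {v : V}
    (hv : pev g (f ^ e) v = 0) {r0 : F[X]} (hr0 : B v (pev g (f ^ (e - 1) * r0) v) ≠ 0) :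
    IsCyc B g (cycSpan g v) (f ^ e) v := by
  refine ⟨fun p => ⟨p, rfl⟩, fun x hx => hx, hv, fun p hp => ?_⟩
  by_contra hnd
  obtain ⟨r, hr⟩ := exists_socle (Q := 1) hf e hnd
  have hmk : AdjoinRoot.mk (f ^ e) (p * r * r0) = AdjoinRoot.mk (f ^ e) (f ^ (e - 1) * r0) := by
    rw [mul_one, one_pow, mul_one] at hr
    rw [map_mul, hr, ← map_mul]
  refine hr0 ?_
  rw [← pev_congr hv hmk, mul_assoc]
  exact hp _

theorem pev'_X_sub_C_pow {s : F} (hs : s = 1 ∨ s = -1) {e : ℕ} {y : V} (hy : pev g ((X - C s) ^ e) y = 0)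
    (he : 1 ≤ e) : pev' g ((X - C s) ^ (e - 1)) y = ((-1 : F) ^ (e - 1)) • pev g ((X - C s) ^ (e - 1)) y := by
  have hX : ∀ x, pev' g X x = g.symm x := fun x => by simp [pev']
  have hC : ∀ x, pev' g (C s) x = s • x := fun x => by simp [pev']
  have hcomm : ∀ (p : F[X]) x, pev g p (g.symm x) = g.symm (pev g p x) := fun p x => g.injective (by
    rw [g.apply_symm_apply, ← pev_X g, ← pev_comm, pev_X, g.apply_symm_apply])
  have hs2 : s * s = 1 := sign_sq hs
  have h1 : ∀ x, pev' g (X - C s) x = (-s) • g.symm (pev g (X - C s) x) := by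
    intro x
    rw [map_sub, map_sub, LinearMap.sub_apply, LinearMap.sub_apply, hX, hC, pev_X, pev_C, map_sub, map_smul,
      g.symm_apply_apply, smul_sub, smul_smul, neg_mul, hs2]
    module
  have hk : ∀ (k : ℕ) x, pev' g ((X - C s) ^ k) x = ((-s) ^ k) • (fun z => g.symm z)^[k] (pev g ((X - C s) ^ k) x) := by
    intro k
    induction k with
    | zero => intro x; simp
    | succ k ih =>
      intro x
      rw [pow_succ, map_mul, Module.End.mul_apply, ih, h1, map_smul, hcomm, ← pev_mul,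
        Function.iterate_succ_apply]
      have hit : ∀ (j : ℕ) (c : F) z, (fun z => g.symm z)^[j] (c • z) = c • (fun z => g.symm z)^[j] z := by
        intro j
        induction j with
        | zero => simp
        | succ j ihj => intro c z; rw [Function.iterate_succ_apply, Function.iterate_succ_apply, map_smul, ihj]
      rw [hit, smul_smul, ← pow_succ]
  rw [hk]
  have hz : g.symm (pev g ((X - C s) ^ (e - 1)) y) = s • pev g ((X - C s) ^ (e - 1)) y := by
    have h0 : pev g (X - C s) (pev g ((X - C s) ^ (e - 1)) y) = 0 := by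
      rw [← pev_mul, ← pow_succ', show e - 1 + 1 = e by omega, hy]
    rw [map_sub, LinearMap.sub_apply, pev_X, pev_C, sub_eq_zero] at h0
    refine g.injective ?_
    rw [g.apply_symm_apply, map_smul, h0, smul_smul, hs2, one_smul]
  have hit : ∀ j : ℕ, (fun z => g.symm z)^[j] (pev g ((X - C s) ^ (e - 1)) y) =
      (s ^ j) • pev g ((X - C s) ^ (e - 1)) y := by
    intro j
    induction j with
    | zero => simp
    | succ j ihj => rw [Function.iterate_succ_apply', ihj, map_smul, hz, smul_smul, ← pow_succ]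
  rw [hit, smul_smul, ← mul_pow, neg_mul, hs2]

variable [FiniteDimensional F V]

/-- splitting off a piece -/
theorem exists_piece (h2 : (2 : F) ≠ 0) (h : FormAut δ B g) {U : Submodule F V} (hU : ∀ x ∈ U, g x ∈ U)
    (hnd : NdOn B U) (hne : U ≠ ⊥) : ∃ (W : Submodule F V) (z : (F[X] × ℕ) × Bool), W ≤ U ∧ W ≠ ⊥ ∧ IsPiece δ B g W z := by
  classical
  obtain ⟨μ, hμ, hμU, hμmin⟩ := exists_annihilator h hU hnd
  have hdeg : 0 < μ.natDegree := by
    by_contra h0
    have h1 := hμ.1.natDegree_eq_zero.1 (Nat.le_zero.1 (not_lt.1 h0))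
    refine hne ((Submodule.eq_bot_iff _).2 fun x hx => ?_)
    simpa [h1] using hμU x hx
  obtain ⟨f, hfm, hfi, hfμ⟩ := Polynomial.exists_monic_irreducible_factor μ
    (fun hu => by have := natDegree_eq_zero_of_isUnit hu; omega)
  have hf0 := coeff_zero_ne_of_dvd hfμ hμ.2.1
  obtain ⟨m, hm, hmf⟩ := (FiniteMultiplicity.of_prime_left hfi.prime hμ.1.ne_zero).exists_eq_pow_mul_and_not_dvd
  set e := multiplicity f μ with he_def
  have he : 1 ≤ e := by
    by_contra h0
    rw [show e = 0 by omega, pow_zero, one_mul] at hm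
    exact hmf (hm ▸ hfμ)
  have hm0 : m ≠ 0 := fun h0 => hμ.1.ne_zero (by rw [hm, h0, mul_zero])
  obtain ⟨v0, hv0U, hv0⟩ : ∃ v0 ∈ U, pev g (f ^ (e - 1) * m) v0 ≠ 0 := by
    by_contra hc
    push Not at hc
    have h1 := hμmin _ hc
    have hee : f ^ e = f * f ^ (e - 1) := by rw [← pow_succ']; congr 1; omega
    rw [hm, hee, mul_assoc] at h1
    obtain ⟨c, hc⟩ := h1
    have hne0 : f ^ (e - 1) * m ≠ 0 := mul_ne_zero (pow_ne_zero _ hfi.ne_zero) hm0
    have : f * c = 1 := mul_left_cancel₀ hne0 (by rw [mul_one]; linear_combination -hc)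
    exact hfi.not_isUnit (IsUnit.of_mul_eq_one c this)
  set v1 := pev g m v0 with hv1
  have hv1U : v1 ∈ U := pev_mem hU _ _ hv0U
  have hv1k : pev g (f ^ e) v1 = 0 := by rw [hv1, ← pev_mul, ← hm, hμU _ hv0U]
  have hv1z : pev g (f ^ (e - 1)) v1 ≠ 0 := by rwa [hv1, ← pev_mul]
  by_cases hd : dual (RingHom.id F) f = f
  · -- the self-dual component
    have hfs : SelfDual f := ⟨hfm, hf0, hd⟩
    let U1 : Submodule F V := U ⊓ LinearMap.ker (pev g (f ^ e))
    have hU1 : ∀ x ∈ U1, g x ∈ U1 := fun x hx => ⟨hU x hx.1, by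
      show pev g (f ^ e) (g x) = 0
      rw [← pev_X g, pev_comm, show pev g (f ^ e) x = 0 from hx.2, map_zero]⟩
    have hnd1 : NdOn B U1 := by
      intro x hx hxy
      refine hnd x hx.1 fun y hy => ?_
      obtain ⟨a, b, hab⟩ := ((hfi.coprime_iff_not_dvd.2 hmf).pow_left (m := e))
      have h1 : y = pev g (f ^ e) (pev g a y) + pev g (b * m) y := by
        rw [← pev_mul, ← LinearMap.add_apply, ← map_add, mul_comm (f ^ e) a, hab]; simp
      have hx0 : pev g (f ^ e) x = 0 := hx.2
      have h2' : B x (pev g (f ^ e) (pev g a y)) = 0 := by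
        have h3 := h.adjoint_reverse (f ^ e) x (pev g a y)
        rw [hx0, (hfs.pow e).reverse_eq, pev_mul, pev_C, map_smul, map_zero, LinearMap.zero_apply, smul_eq_mul] at h3
        exact (mul_eq_zero.1 h3.symm).resolve_left (hfs.pow e).2.1
      have h3 : B x (pev g (b * m) y) = 0 := hxy _ ⟨pev_mem hU _ _ hy, by
        show pev g (f ^ e) (pev g (b * m) y) = 0
        rw [← pev_mul, show f ^ e * (b * m) = b * μ by rw [hm]; ring, pev_mul, hμU y hy, map_zero]⟩
      rw [h1, map_add, h2', h3, add_zero]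
    have hv1' : v1 ∈ U1 := ⟨hv1U, hv1k⟩
    by_cases hpm : f.eval 1 ≠ 0 ∧ f.eval (-1) ≠ 0
    · -- away from `±1`
      obtain ⟨v, hvU, r0, hr0⟩ : ∃ v ∈ U1, ∃ r0, B v (pev g (f ^ (e - 1) * r0) v) ≠ 0 := by
        by_contra hc
        push Not at hc
        have hpol : ∀ x ∈ U1, ∀ y ∈ U1, ∀ r, B x (pev g (f ^ (e - 1) * r) y) + B y (pev g (f ^ (e - 1) * r) x) = 0 := by
          intro x hx y hy r
          have h1 := hc (x + y) (U1.add_mem hx hy) r
          simp only [map_add, LinearMap.add_apply, hc x hx r, hc y hy r, add_zero, zero_add] at h1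
          linear_combination h1
        set d := (f ^ (e - 1)).natDegree
        set c := (f ^ (e - 1)).coeff 0
        set w := v1
        set z := pev g (f ^ (e - 1)) w
        have hkey : ∀ r, pev g r (pev g (X ^ d) z) + (δ * c) • pev' g r z = 0 := by
          intro r
          have hrev : pev' g (f ^ (e - 1)) (pev g (X ^ d) w) = c • z := by
            rw [← pev_reverse, (hfs.pow (e - 1)).reverse_eq, pev_mul, pev_C]
          have hmem : pev g r (pev g (X ^ d) z) + (δ * c) • pev' g r z ∈ U1 := by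
            refine U1.add_mem (pev_mem hU1 _ _ (pev_mem hU1 _ _ (pev_mem hU1 _ _ hv1'))) (U1.smul_mem _ ?_)
            have hs : ∀ x ∈ U1, g.symm x ∈ U1 := by
              intro x hx
              have : U1.map (g : V →ₗ[F] V) = U1 := by
                refine Submodule.eq_of_le_of_finrank_eq ?_ (LinearEquiv.finrank_map_eq g U1)
                rintro _ ⟨a, ha, rfl⟩
                exact hU1 a ha
              rw [← this] at hx
              obtain ⟨a, ha, rfl⟩ := hx
              rwa [LinearEquiv.coe_coe, g.symm_apply_apply]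
            exact pev_mem (g := g.symm) hs _ _ (pev_mem hU1 _ _ hv1')
          refine hnd1 _ hmem fun x hx => ?_
          have h1 := hpol x hx (pev g (X ^ d) w) (pev_mem hU1 _ _ hv1') r
          rw [h.symm (pev g (X ^ d) w), h.adjoint, mul_comm (f ^ (e - 1)) r, map_mul (pev' g),
            Module.End.mul_apply, hrev, map_smul, map_smul, pev_mul, pev_comm g (f ^ (e - 1)), smul_eq_mul,
            ← mul_assoc] at h1
          rw [h.symm, map_add, map_smul, smul_eq_mul, h1, mul_zero]
        have h1 := hkey 1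
        simp only [map_one, Module.End.one_apply] at h1
        have hX := hkey X
        rw [eq_neg_of_add_eq_zero_left h1, pev_X, map_neg, map_smul,
          show pev' g X z = g.symm z by simp [pev'], neg_add_eq_sub, ← smul_sub, smul_eq_zero, sub_eq_zero] at hX
        have hgz : g.symm z = g z := hX.resolve_left (mul_ne_zero h.sign_ne (hfs.pow _).2.1)
        have hq : pev g ((X - C 1) * (X - C (-1))) z = 0 := by
          have e1 : g (g z) = z := by rw [← hgz, g.apply_symm_apply]
          rw [pev_mul, map_sub (pev g) X (C (-1)), LinearMap.sub_apply, pev_X, pev_C, map_sub (pev g) X (C 1),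
            LinearMap.sub_apply, pev_X, pev_C, map_sub g, map_smul, e1]
          module
        have hfz : pev g f z = 0 := by
          rw [← pev_mul, ← pow_succ', show e - 1 + 1 = e by omega]; exact hv1k
        obtain ⟨a, b, hab⟩ : IsCoprime f ((X - C 1) * (X - C (-1))) :=
          IsCoprime.mul_right ((irreducible_X_sub_C (1 : F)).coprime_iff_not_dvd.2
            fun hh => hpm.1 (dvd_iff_isRoot.1 hh)).symm
            ((irreducible_X_sub_C (-1 : F)).coprime_iff_not_dvd.2 fun hh => hpm.2 (dvd_iff_isRoot.1 hh)).symm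
        refine hv1z ?_
        calc z = pev g (a * f + b * ((X - C 1) * (X - C (-1)))) z := by rw [hab]; simp
          _ = 0 := by rw [map_add, LinearMap.add_apply, pev_mul, hfz, pev_mul g b, hq, map_zero, map_zero, add_zero]
      have hv : IsCyc B g (cycSpan g v) (f ^ e) v := isCyc_irreducible h hfi hvU.2 hr0
      refine ⟨_, ((f, e), false), (cycSpan_le hU hvU.1), ?_, he, Or.inl ⟨⟨hfs, hpm.1, hpm.2, Or.inl hfi⟩, rfl, v, hv⟩⟩
      intro hb
      have : v = 0 := by
        have hmem : v ∈ cycSpan g v := ⟨1, by simp⟩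
        rwa [hb, Submodule.mem_bot] at hmem
      exact hr0 (by rw [this]; simp)
    · -- at `±1`
      obtain ⟨s, hs, rfl⟩ : ∃ s : F, (s = 1 ∨ s = -1) ∧ f = X - C s := by
        obtain ⟨s, hs, hroot⟩ : ∃ s : F, (s = 1 ∨ s = -1) ∧ f.eval s = 0 := by
          by_cases h1 : f.eval 1 = 0
          · exact ⟨1, Or.inl rfl, h1⟩
          · exact ⟨-1, Or.inr rfl, not_not.1 fun h' => hpm ⟨h1, h'⟩⟩
        exact ⟨s, hs, eq_of_monic_of_associated hfm (monic_X_sub_C s)
          (((irreducible_X_sub_C s).associated_of_dvd hfi (dvd_iff_isRoot.2 hroot)).symm)⟩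
      set σ := δ * (-1 : F) ^ (e - 1) with hσ
      have hsymm : ∀ x ∈ U1, ∀ y ∈ U1, B y (pev g ((X - C s) ^ (e - 1)) x) = σ * B x (pev g ((X - C s) ^ (e - 1)) y) := by
        intro x _ y hy
        rw [h.symm, h.adjoint, pev'_X_sub_C_pow hs hy.2 he, map_smul, smul_eq_mul, ← mul_assoc]
      have hex : ∃ x ∈ U1, ∃ y ∈ U1, B x (pev g ((X - C s) ^ (e - 1)) y) ≠ 0 := by
        by_contra hc
        push Not at hc
        exact hv1z (hnd1 _ (pev_mem hU1 _ _ hv1') fun x hx => by rw [h.symm, hc x hx v1 hv1', mul_zero])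
      rcases (show σ = 1 ∨ σ = -1 by
        rcases h.sign with hd' | hd' <;> rcases neg_one_pow_eq_or F (e - 1) with hp | hp <;> rw [hσ, hd', hp] <;> simp)
        with hσ1 | hσ1
      · obtain ⟨v, hvU, hv⟩ : ∃ v ∈ U1, B v (pev g ((X - C s) ^ (e - 1)) v) ≠ 0 := by
          by_contra hc
          push Not at hc
          obtain ⟨x, hx, y, hy, hxy⟩ := hex
          have h1 := hc (x + y) (U1.add_mem hx hy)
          simp only [map_add, LinearMap.add_apply, hc x hx, hc y hy, add_zero, zero_add, hsymm x hx y hy, hσ1,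
            one_mul] at h1
          exact hxy ((mul_eq_zero.1 ((two_mul _).trans h1)).resolve_left h2)
        have hcy : IsCyc B g (cycSpan g v) ((X - C s) ^ e) v :=
          isCyc_irreducible h hfi hvU.2 (r0 := 1) (by rwa [mul_one])
        refine ⟨_, ((X - C s, e), decide (¬ IsSquare (B v (pev g ((X - C s) ^ (e - 1)) v)))), cycSpan_le hU hvU.1, ?_,
          he, Or.inr (Or.inl ⟨s, hs, rfl, hσ1, v, hcy, by simp⟩)⟩
        intro hb
        have : v = 0 := by
          have hmem : v ∈ cycSpan g v := ⟨1, by simp⟩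
          rwa [hb, Submodule.mem_bot] at hmem
        exact hv (by rw [this]; simp)
      · obtain ⟨x, hx, y, hy, hxy⟩ := hex
        let W : Submodule F V := cycSpan g x ⊔ cycSpan g y
        refine ⟨W, (((X - C s) ^ 2, e), false), sup_le (cycSpan_le hU hx.1) (cycSpan_le hU hy.1), ?_, he,
          Or.inr (Or.inr ⟨s, hs, rfl, hσ1, rfl, x, y, ?_, ?_, hx.2, hy.2, hxy⟩)⟩
        · intro hb
          have : x = 0 := by
            have hmem : x ∈ W := Submodule.mem_sup_left ⟨1, by simp⟩
            rwa [hb, Submodule.mem_bot] at hmem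
          exact hxy (by rw [this]; simp)
        · exact fun p r => Submodule.add_mem_sup ⟨p, rfl⟩ ⟨r, rfl⟩
        · intro z hz
          obtain ⟨a, ⟨p, rfl⟩, b, ⟨r, rfl⟩, rfl⟩ := Submodule.mem_sup.1 hz
          exact ⟨p, r, rfl⟩
  · -- a pair of dual components
    set f' := dual (RingHom.id F) f with hf'
    have hσ2 : ∀ a, RingHom.id F (RingHom.id F a) = a := fun a => rfl
    have hf'i : Irreducible f' := irreducible_dual _ hσ2 hfi hfm hf0
    have hf'm : f'.Monic := monic_dual _ hf0
    have hf'0 : f'.coeff 0 ≠ 0 := by rw [hf', coeff_zero_dual _ hfm]; simpa using hf0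
    have hf'' : dual (RingHom.id F) f' = f := dual_dual _ hσ2 hfm hf0
    have hdpow : ∀ (P : F[X]) (i : ℕ), dual (RingHom.id F) (P ^ i) = dual (RingHom.id F) P ^ i := fun P i => by
      induction i with
      | zero => rw [pow_zero, pow_zero, selfDual_one.2.2]
      | succ i ih => rw [pow_succ, pow_succ, dual_mul, ih]
    have hco : IsCoprime f f' := hfi.coprime_iff_not_dvd.mpr fun hdvd =>
      hd (eq_of_monic_of_associated hfm hf'm (hfi.associated_of_dvd hf'i hdvd)).symm
    obtain ⟨m', hm'⟩ : f' ^ e ∣ m := by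
      refine (IsCoprime.pow hco.symm).dvd_of_dvd_mul_left (?_ : f' ^ e ∣ f ^ e * m)
      rw [← hm, ← hμ.2.2, hm, dual_mul, hdpow]
      exact dvd_mul_right _ _
    have hm'd : dual (RingHom.id F) m' = m' := by
      have h1 := hμ.2.2
      rw [hm, hm', dual_mul, dual_mul, hdpow, hdpow, ← hf', hf''] at h1
      refine mul_left_cancel₀ (mul_ne_zero (pow_ne_zero e hfi.ne_zero) (pow_ne_zero e hf'i.ne_zero)) ?_
      linear_combination h1
    have hm'f : ¬ f ∣ m' := fun hh => hmf (hm' ▸ dvd_mul_of_dvd_right hh _)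
    have hm'f' : ¬ f' ∣ m' := fun hh => hm'f (by
      have := dual_dvd (RingHom.id F) hh
      rwa [hf'', hm'd] at this)
    have hq : ∀ y, pev g (X ^ (f ^ e).natDegree) y = 0 → y = 0 := fun y hy => by
      have : ∀ k : ℕ, ∀ y, pev g (X ^ k) y = 0 → y = 0 := by
        intro k
        induction k with
        | zero => intro y hy; simpa using hy
        | succ k ih => intro y hy; rw [pow_succ, pev_mul, pev_X] at hy; exact g.map_eq_zero_iff.1 (ih _ hy)
      exact this _ y hy
    -- the component of `f` is orthogonal to itself and to everything prime to `f'`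
    have horth : ∀ x, pev g (f ^ e) x = 0 → ∀ y, B x (pev g (f' ^ e) y) = 0 := by
      intro x hx y
      have h3 := h.adjoint_reverse (f ^ e) x y
      rw [hx, map_zero, LinearMap.zero_apply] at h3
      have hrev : (f ^ e).reverse = C ((f ^ e).coeff 0) * f' ^ e := by
        rw [hf', ← hdpow, dual, RingHom.id_apply, Polynomial.map_id, ← mul_assoc, ← C_mul, mul_inv_cancel₀, C_1,
          one_mul]
        rw [coeff_zero_eq_eval_zero, eval_pow, ← coeff_zero_eq_eval_zero]; exact pow_ne_zero _ hf0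
      rw [hrev, pev_mul, pev_C, map_smul, smul_eq_mul] at h3
      refine (mul_eq_zero.1 h3.symm).resolve_left ?_
      rw [coeff_zero_eq_eval_zero, eval_pow, ← coeff_zero_eq_eval_zero]; exact pow_ne_zero _ hf0
    obtain ⟨y, hyU, hy⟩ : ∃ y ∈ U, B (pev g (f ^ (e - 1)) v1) y ≠ 0 := by
      by_contra hc
      push Not at hc
      exact hv1z (hnd _ (pev_mem hU _ _ hv1U) hc)
    obtain ⟨a, b, hab⟩ : IsCoprime (f' ^ e) (f ^ e * m') :=
      (IsCoprime.pow hco.symm).mul_right ((hf'i.coprime_iff_not_dvd.2 hm'f').pow_left)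
    set w := pev g (b * (f ^ e * m')) y with hw
    have hwU : w ∈ U := pev_mem hU _ _ hyU
    have hwk : pev g (f' ^ e) w = 0 := by
      rw [hw, ← pev_mul, show f' ^ e * (b * (f ^ e * m')) = b * μ by rw [hm, hm']; ring, pev_mul, hμU y hyU,
        map_zero]
    have hz1k : pev g (f ^ e) (pev g (f ^ (e - 1)) v1) = 0 := by rw [pev_comm, hv1k, map_zero]
    have hzw : B (pev g (f ^ (e - 1)) v1) w ≠ 0 := by
      intro h0
      refine hy ?_
      have hy' : y = pev g (f' ^ e) (pev g a y) + w := by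
        rw [hw, ← pev_mul, ← LinearMap.add_apply, ← map_add, mul_comm (f' ^ e) a, hab]; simp
      rw [hy', map_add, h0, add_zero]
      exact horth _ hz1k _
    set u := v1 + w with hu
    set P := f * f' with hP
    have hPs : SelfDual P := ⟨hfm.mul hf'm, by rw [hP, mul_coeff_zero]; exact mul_ne_zero hf0 hf'0, by
      rw [hP, dual_mul, hf'', ← hf', mul_comm]⟩
    have huk : pev g (P ^ e) u = 0 := by
      rw [hu, map_add, hP, mul_pow, pev_mul g (f ^ e), pev_mul g (f ^ e), pev_comm g (f ^ e) (f' ^ e) v1, hv1k,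
        hwk, map_zero, map_zero, add_zero]
    obtain ⟨a', b', hab'⟩ : IsCoprime (f' ^ e) (f ^ e) := IsCoprime.pow hco.symm
    have hself : ∀ x, pev g (f ^ e) x = 0 → ∀ x', pev g (f ^ e) x' = 0 → B x x' = 0 := by
      intro x hx x' hx'
      have : x' = pev g (f' ^ e) (pev g a' x') := by
        conv_lhs => rw [show x' = pev g (a' * f' ^ e + b' * f ^ e) x' by rw [hab']; simp]
        rw [map_add, LinearMap.add_apply, pev_mul g b', hx', map_zero, add_zero, mul_comm, pev_mul]
      rw [this]; exact horth x hx _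
    have hsoc : B u (pev g (f ^ (e - 1) * f' ^ e * a') u) ≠ 0 := by
      have e1 : pev g (f ^ (e - 1) * f' ^ e * a') u = pev g (f ^ (e - 1)) v1 := by
        rw [hu, map_add]
        have h1 : pev g (f ^ (e - 1) * f' ^ e * a') w = 0 := by
          rw [show f ^ (e - 1) * f' ^ e * a' = f ^ (e - 1) * a' * f' ^ e by ring, pev_mul, hwk, map_zero]
        have h2' : pev g (f ^ (e - 1) * f' ^ e * a') v1 = pev g (f ^ (e - 1)) v1 := by
          have e2 : f ^ (e - 1) * f' ^ e * a' = f ^ (e - 1) - f ^ (e - 1) * b' * f ^ e := by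
            linear_combination (f ^ (e - 1)) * hab'
          rw [e2, map_sub, LinearMap.sub_apply, pev_mul g (f ^ (e - 1) * b'), hv1k, map_zero, sub_zero]
        rw [h1, h2', add_zero]
      rw [e1, hu, map_add, LinearMap.add_apply, hself v1 hv1k _ hz1k, zero_add, h.symm]
      exact mul_ne_zero h.sign_ne hzw
    have hcy : IsCyc B g (cycSpan g u) (P ^ e) u := by
      refine ⟨fun p => ⟨p, rfl⟩, fun x hx => hx, huk, fun p hp => ?_⟩
      rw [hP, mul_pow]
      have key : ∀ q : F[X], (∀ r, B u (pev g (q * r) u) = 0) → f ^ e ∣ q := by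
        intro q hq
        by_contra hnd'
        obtain ⟨r, hr⟩ := exists_socle (Q := f') hfi e hnd'
        refine hsoc ?_
        have hmk : AdjoinRoot.mk (P ^ e) (q * r * a') = AdjoinRoot.mk (P ^ e) (f ^ (e - 1) * f' ^ e * a') := by
          rw [map_mul, hP, hr, ← map_mul]
        rw [← pev_congr huk hmk, mul_assoc]
        exact hq _
      refine (IsCoprime.pow hco).mul_dvd (key p hp) ?_
      by_contra hnd'
      obtain ⟨r, hr⟩ := exists_socle (Q := f) hf'i e hnd'
      -- the other socle is moved by duality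
      set q := f' ^ (e - 1) * f ^ e with hqdef
      have hq' : ∀ r', B u (pev g (q * r') u) = 0 := fun r' => by
        have hmk : AdjoinRoot.mk (P ^ e) (p * r * r') = AdjoinRoot.mk (P ^ e) (q * r') := by
          rw [mul_comm f' f, ← hP] at hr
          rw [map_mul, hr, ← map_mul]
        rw [← pev_congr huk hmk, mul_assoc]
        exact hp _
      have hq0 : q.coeff 0 ≠ 0 := by
        rw [hqdef, mul_coeff_zero, coeff_zero_eq_eval_zero, coeff_zero_eq_eval_zero, eval_pow, eval_pow,
          ← coeff_zero_eq_eval_zero, ← coeff_zero_eq_eval_zero]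
        exact mul_ne_zero (pow_ne_zero _ hf'0) (pow_ne_zero _ hf0)
      have h4 := h.dual_socle (hPs.pow e) huk hq0 hq' a'
      rw [hqdef, dual_mul, hdpow, hdpow, hf'', ← hf'] at h4
      exact hsoc h4
    have hev : ∀ s : F, (s = 1 ∨ s = -1) → f.eval s ≠ 0 ∧ f'.eval s ≠ 0 := by
      intro s hs
      have hss := (selfDual_X_sub_C hs).2.2
      constructor
      · intro h0
        refine hd ?_
        rw [eq_of_monic_of_associated hfm (monic_X_sub_C s)
          (((irreducible_X_sub_C s).associated_of_dvd hfi (dvd_iff_isRoot.2 h0)).symm), hf',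
          eq_of_monic_of_associated hfm (monic_X_sub_C s)
          (((irreducible_X_sub_C s).associated_of_dvd hfi (dvd_iff_isRoot.2 h0)).symm), hss]
      · intro h0
        have h1 := eq_of_monic_of_associated hf'm (monic_X_sub_C s)
          (((irreducible_X_sub_C s).associated_of_dvd hf'i (dvd_iff_isRoot.2 h0)).symm)
        exact hd (by rw [h1, ← hf'', h1, hss])
    refine ⟨_, ((P, e), false), cycSpan_le hU (U.add_mem hv1U hwU), ?_, he, Or.inl ⟨⟨hPs, ?_, ?_,
      Or.inr ⟨f, hfi, hfm, hf0, hd, rfl⟩⟩, rfl, u, hcy⟩⟩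
    · intro hb
      have : u = 0 := by
        have hmem : u ∈ cycSpan g u := ⟨1, by simp⟩
        rwa [hb, Submodule.mem_bot] at hmem
      exact hsoc (by rw [this]; simp)
    · rw [hP, eval_mul]; exact mul_ne_zero (hev 1 (Or.inl rfl)).1 (hev 1 (Or.inl rfl)).2
    · rw [hP, eval_mul]; exact mul_ne_zero (hev (-1) (Or.inr rfl)).1 (hev (-1) (Or.inr rfl)).2

end Cfsg.Agent.CN9
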