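import Cfsg.Agent.ClassNum9.Iso.Pieces

/-!
Pieces with equal labels are isometric; basic properties of pieces.
-/

set_option autoImplicit false

namespace Cfsg.Agent.CN9

open Polynomial Module Cfsg.Agent.GLSemi

universe u v w

variable {F : Type u} [Field F] [Fintype F] {V : Type v} [AddCommGroup V] [Module F V]
variable {V' : Type w} [AddCommGroup V'] [Module F V']
variable {δ : F} {B : LinearMap.BilinForm F V} {g : V ≃ₗ[F] V} {W : Submodule F V}
variable {B' : LinearMap.BilinForm F V'} {g' : V' ≃ₗ[F] V'} {W' : Submodule F V'}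

omit [Fintype F] in
theorem IsDbl.smul_right {s c : F} (hc : c ≠ 0) {e : ℕ} {v w : V} (hW : IsDbl B g W s e v w) :
    IsDbl B g W s e v (c • w) := by
  obtain ⟨h1, h2, h3, h4, h5⟩ := hW
  refine ⟨fun p r => ?_, fun x hx => ?_, h3, by rw [map_smul, h4, smul_zero], ?_⟩
  · rw [← pev_C g c w, ← pev_mul]; exact h1 p _
  · obtain ⟨p, r, rfl⟩ := h2 x hx
    refine ⟨p, r * C c⁻¹, ?_⟩
    rw [pev_mul, pev_C, smul_smul, inv_mul_cancel₀ hc, one_smul]
  · rw [map_smul, map_smul, smul_eq_mul]; exact mul_ne_zero hc h5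

theorem dbl_iso (h2 : (2 : F) ≠ 0) (h : FormAut δ B g) (h' : FormAut δ B' g') {s : F} (hs : s = 1 ∨ s = -1)
    {e : ℕ} (he : 1 ≤ e) (hsign : δ * (-1) ^ (e - 1) = -1) {v w : V} {v' w' : V'}
    (hW : IsDbl B g W s e v w) (hW' : IsDbl B' g' W' s e v' w') : IsoOn B g W B' g' W' := by
  obtain ⟨τ, hτr, hττ⟩ := exists_bar ((selfDual_X_sub_C hs).pow e)
  set L := B v (pev g ((X - C s) ^ (e - 1)) w) with hL
  set L' := B' v' (pev g' ((X - C s) ^ (e - 1)) w') with hL'
  have hc : L / L' ≠ 0 := div_ne_zero hW.2.2.2.2 hW'.2.2.2.2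
  obtain ⟨ρ, hinj, hr, hg, hadj, hval⟩ := hW.model h2 h hs he hsign hτr hττ
  obtain ⟨ρ', hinj', hr', hg', hadj', hval'⟩ := (hW'.smul_right hc).model h2 h' hs he hsign hτr hττ
  have hLL : B' v' (pev g' ((X - C s) ^ (e - 1)) ((L / L') • w')) = L := by
    rw [map_smul, map_smul, smul_eq_mul, ← hL', div_mul_cancel₀ _ hW'.2.2.2.2]
  rw [hLL] at hval'
  rw [← hL] at hval
  haveI : Module.Finite F (AdjoinRoot ((X - C s) ^ e)) :=
    (AdjoinRoot.powerBasis' ((monic_X_sub_C s).pow e)).finite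
  -- the two forms on the common model
  let Φ := B.compl₁₂ ρ ρ
  let Φ' := B'.compl₁₂ ρ' ρ'
  have hΦs : ∀ x y, Φ x y = δ * Φ y x := fun x y => h.symm _ _
  have hΦ's : ∀ x y, Φ' x y = δ * Φ' y x := fun x y => h'.symm _ _
  have hadjΦ : ∀ (a : AdjoinRoot ((X - C s) ^ e)) x y, Φ (a • x) y = Φ x (τ a • y) := hadj
  have hadjΦ' : ∀ (a : AdjoinRoot ((X - C s) ^ e)) x y, Φ' (a • x) y = Φ' x (τ a • y) := hadj'
  have hnd : Function.Injective Φ := by
    rw [← LinearMap.ker_eq_bot, LinearMap.ker_eq_bot']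
    intro x hx
    by_contra hx0
    set E1 := AdjoinRoot.mk ((X - C s) ^ e) ((X - C s) ^ (e - 1))
    set ε := AdjoinRoot.mk ((X - C s) ^ e) (X - C s)
    have hnil : ε ^ e • x = 0 := by
      rw [show ε ^ e = 0 by rw [← map_pow, AdjoinRoot.mk_self], zero_smul]
    classical
    have hex : ∃ j : ℕ, ε ^ j • x = 0 := ⟨e, hnil⟩
    let j := Nat.find hex
    have hj : ε ^ j • x = 0 := Nat.find_spec hex
    have hj0 : 0 < j := Nat.pos_of_ne_zero fun h0 => hx0 (by rwa [h0, pow_zero, one_smul] at hj)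
    have hy0 : ε ^ (j - 1) • x ≠ 0 := Nat.find_min hex (show j - 1 < j by omega)
    have hεy : ε • (ε ^ (j - 1) • x) = 0 := by rw [smul_smul, ← pow_succ', Nat.sub_add_cancel hj0, hj]
    have hker : ∀ y, Φ (ε ^ (j - 1) • x) y = 0 := fun y => by rw [hadjΦ, hx]; rfl
    have hsoc : ∀ a : AdjoinRoot ((X - C s) ^ e), ε * a = 0 → ∃ p : F[X], E1 * AdjoinRoot.mk _ p = a := by
      intro a ha
      obtain ⟨p, rfl⟩ := AdjoinRoot.mk_surjective a
      rw [← map_mul, AdjoinRoot.mk_eq_zero] at ha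
      have hee : (X - C s) ^ e = (X - C s) * (X - C s) ^ (e - 1) := by rw [← pow_succ']; congr 1; omega
      rw [hee] at ha
      obtain ⟨r, hr⟩ := (mul_dvd_mul_iff_left (X_sub_C_ne_zero s)).1 ha
      exact ⟨r, by rw [← map_mul, hr]⟩
    obtain ⟨p1, hp1⟩ := hsoc _ (congrArg Prod.fst hεy)
    obtain ⟨r1, hr1⟩ := hsoc _ (congrArg Prod.snd hεy)
    have hy : E1 • ((AdjoinRoot.mk ((X - C s) ^ e) p1, AdjoinRoot.mk ((X - C s) ^ e) r1)) = ε ^ (j - 1) • x :=
      Prod.ext hp1 hr1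
    have ev1 : ∀ p r : F[X], (p.eval s * r1.eval s - r.eval s * p1.eval s) * L = 0 := fun p r => by
      rw [← hval, hy]
      show Φ _ _ = 0
      rw [hΦs, hker, mul_zero]
    have hL0 : L ≠ 0 := hW.2.2.2.2
    have hr10 : r1.eval s = 0 := by simpa [hL0] using ev1 1 0
    have hp10 : p1.eval s = 0 := by simpa [hL0] using ev1 0 1
    refine hy0 (hy ▸ Prod.ext ?_ ?_)
    · simp only [Prod.smul_fst, smul_eq_mul, Prod.fst_zero]
      rw [mul_comm, socle_mul s he, hp10, zero_smul]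
    · simp only [Prod.smul_snd, smul_eq_mul, Prod.snd_zero]
      rw [mul_comm, socle_mul s he, hr10, zero_smul]
  have hsur := (LinearMap.injective_iff_surjective_of_finrank_eq_finrank Subspace.dual_finrank_eq.symm).1 hnd
  let E := LinearEquiv.ofBijective Φ ⟨hnd, hsur⟩
  let k : Module.End F (AdjoinRoot ((X - C s) ^ e) × AdjoinRoot ((X - C s) ^ e)) := E.symm.toLinearMap.comp Φ'
  have hk : ∀ x y, Φ (k x) y = Φ' x y := fun x y => LinearMap.congr_fun (E.apply_symm_apply (Φ' x)) y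
  have hkr : ∀ (a : AdjoinRoot ((X - C s) ^ e)) x, k (a • x) = a • k x := by
    intro a x
    refine hnd (LinearMap.ext fun y => ?_)
    rw [hk, hadjΦ', hadjΦ, hk]
  have hself : ∀ x y, Φ x (k y) = Φ (k x) y := fun x y => by rw [hΦs, hk, hk, ← hΦ's]
  have hlead : ∀ x, ∃ y, k x - x = AdjoinRoot.mk ((X - C s) ^ e) (X - C s) • y := by
    intro x
    obtain ⟨⟨a, ha⟩, ⟨b, hb⟩⟩ : (∃ a, AdjoinRoot.mk ((X - C s) ^ e) a = (k x - x).1) ∧
        ∃ b, AdjoinRoot.mk ((X - C s) ^ e) b = (k x - x).2 :=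
      ⟨AdjoinRoot.mk_surjective _, AdjoinRoot.mk_surjective _⟩
    obtain ⟨⟨p, hp⟩, ⟨r, hr2⟩⟩ : (∃ a, AdjoinRoot.mk ((X - C s) ^ e) a = x.1) ∧
        ∃ b, AdjoinRoot.mk ((X - C s) ^ e) b = x.2 :=
      ⟨AdjoinRoot.mk_surjective _, AdjoinRoot.mk_surjective _⟩
    have hz : k x - x = (AdjoinRoot.mk ((X - C s) ^ e) a, AdjoinRoot.mk ((X - C s) ^ e) b) := Prod.ext ha.symm hb.symm
    have hx : x = (AdjoinRoot.mk ((X - C s) ^ e) p, AdjoinRoot.mk ((X - C s) ^ e) r) := Prod.ext hp.symm hr2.symm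
    have key : ∀ p' r' : F[X], (a.eval s * r'.eval s - b.eval s * p'.eval s) * L = 0 := by
      intro p' r'
      have h1 : Φ' x (AdjoinRoot.mk ((X - C s) ^ e) ((X - C s) ^ (e - 1)) •
          (AdjoinRoot.mk ((X - C s) ^ e) p', AdjoinRoot.mk ((X - C s) ^ e) r')) =
          Φ x (AdjoinRoot.mk ((X - C s) ^ e) ((X - C s) ^ (e - 1)) •
          (AdjoinRoot.mk ((X - C s) ^ e) p', AdjoinRoot.mk ((X - C s) ^ e) r')) := by
        rw [hx]
        exact (hval' p r p' r').trans (hval p r p' r').symm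
      rw [← hk] at h1
      rw [← hval, ← hz]
      show Φ (k x - x) _ = 0
      rw [map_sub, LinearMap.sub_apply, h1, sub_self]
    have hL0 : L ≠ 0 := hW.2.2.2.2
    have ha0 : a.eval s = 0 := by simpa [hL0] using key 0 1
    have hb0 : b.eval s = 0 := by simpa [hL0] using key 1 0
    obtain ⟨a', rfl⟩ := dvd_iff_isRoot.2 ha0
    obtain ⟨b', rfl⟩ := dvd_iff_isRoot.2 hb0
    exact ⟨(AdjoinRoot.mk _ a', AdjoinRoot.mk _ b'), by rw [hz, map_mul, map_mul]; rfl⟩
  have hnilk : IsNilpotent (k - 1) := by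
    refine ⟨e, LinearMap.ext fun x => ?_⟩
    have hj : ∀ j, ∃ y, ((k - 1) ^ j) x = AdjoinRoot.mk ((X - C s) ^ e) (X - C s) ^ j • y := by
      intro j
      induction j with
      | zero => exact ⟨x, by simp⟩
      | succ j ih =>
        obtain ⟨y, hy⟩ := ih
        obtain ⟨y', hy'⟩ := hlead y
        refine ⟨y', ?_⟩
        rw [pow_succ', Module.End.mul_apply, hy, LinearMap.sub_apply, hkr, Module.End.one_apply, ← smul_sub, hy',
          smul_smul, ← pow_succ]
    obtain ⟨y, hy⟩ := hj e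
    rw [hy, show AdjoinRoot.mk ((X - C s) ^ e) (X - C s) ^ e = 0 by rw [← map_pow, AdjoinRoot.mk_self], zero_smul]
    rfl
  obtain ⟨m, hm⟩ := exists_sqrt h2 hnilk
  have hpowk : ∀ (j : ℕ) (a : AdjoinRoot ((X - C s) ^ e)) x, (k ^ j) (a • x) = a • (k ^ j) x := by
    intro j a
    induction j with
    | zero => simp
    | succ j ih => intro x; rw [pow_succ', Module.End.mul_apply, ih, hkr, Module.End.mul_apply]
  have hpows : ∀ (j : ℕ) x y, Φ x ((k ^ j) y) = Φ ((k ^ j) x) y := by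
    intro j
    induction j with
    | zero => simp
    | succ j ih =>
      intro x y
      conv_lhs => rw [pow_succ', Module.End.mul_apply, hself, ih]
      rw [pow_succ, Module.End.mul_apply]
  have hker' : ∀ x, k x = 0 → x = 0 := by
    intro x hx
    have : ((k - 1) ^ e) x = 0 ∨ True := Or.inr trivial
    obtain ⟨N, hN⟩ := hnilk
    have h1 : IsUnit (1 + (k - 1)) := IsNilpotent.isUnit_one_add ⟨N, hN⟩
    rw [add_sub_cancel] at h1
    exact ((Module.End.isUnit_iff _).1 h1).1 (hx.trans (map_zero k).symm)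
  have hbij : Function.Bijective (k ^ m) := by
    have h1 : IsUnit (1 + (k - 1)) := IsNilpotent.isUnit_one_add hnilk
    rw [add_sub_cancel] at h1
    exact (Module.End.isUnit_iff _).1 (h1.pow m)
  -- transport from `W` using the inverse square root
  obtain ⟨u, hu⟩ : IsUnit (k ^ m) := (Module.End.isUnit_iff _).2 hbij
  refine isoOn_of_model hinj hr hr' ((u⁻¹ : (Module.End F _)ˣ) : Module.End F _)
    ((Module.End.isUnit_iff _).1 (u⁻¹).isUnit).2 (fun a b => ?_)
    (LinearMap.lsmul F (AdjoinRoot ((X - C s) ^ e) × AdjoinRoot ((X - C s) ^ e)) 1 |>.comp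
      (DistribSMul.toLinearMap F _ (AdjoinRoot.root ((X - C s) ^ e)))) (fun a => by simpa using hg a)
    (fun a => by simpa using hg' a) (fun a => ?_)
  · show Φ' _ _ = Φ a b
    rw [← hk, ← hm, Module.End.mul_apply, ← hpows, ← hu]
    have huu : ∀ x, (u : Module.End F (AdjoinRoot ((X - C s) ^ e) × AdjoinRoot ((X - C s) ^ e)))
        ((u⁻¹ : (Module.End F _)ˣ).1 x) = x := fun x => by rw [← Module.End.mul_apply, Units.mul_inv]; rfl
    rw [huu, huu]
  · simp only [LinearMap.comp_apply, LinearMap.lsmul_apply, one_smul, DistribSMul.toLinearMap_apply]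
    apply ((Module.End.isUnit_iff _).1 u.isUnit).1
    have huu : ∀ x, (u : Module.End F (AdjoinRoot ((X - C s) ^ e) × AdjoinRoot ((X - C s) ^ e)))
        ((u⁻¹ : (Module.End F _)ˣ).1 x) = x := fun x => by rw [← Module.End.mul_apply, Units.mul_inv]; rfl
    conv_rhs => rw [hu, hpowk, ← hu, huu]
    rw [huu]

theorem piece_iso (h2 : (2 : F) ≠ 0) (h : FormAut δ B g) (h' : FormAut δ B' g') {z : (F[X] × ℕ) × Bool}
    (hW : IsPiece δ B g W z) (hW' : IsPiece δ B' g' W' z) : IsoOn B g W B' g' W' := by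
  obtain ⟨he, hz⟩ := hW
  obtain ⟨-, hz'⟩ := hW'
  have hlin : ∀ s : F, (s = 1 ∨ s = -1) → IsReg (X - C s) → False := by
    rintro s hs ⟨-, h1, h1', -⟩
    rcases hs with rfl | rfl
    · exact h1 (by simp)
    · exact h1' (by simp)
  have hsq : ∀ s : F, (s = 1 ∨ s = -1) → IsReg ((X - C s) ^ 2) → False := by
    rintro s hs ⟨-, h1, h1', -⟩
    rcases hs with rfl | rfl
    · exact h1 (by simp)
    · exact h1' (by simp)
  have hdeg : ∀ s s' : F, X - C s ≠ (X - C s') ^ 2 := fun s s' hh => by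
    have := congrArg natDegree hh
    rw [natDegree_pow, natDegree_X_sub_C, natDegree_X_sub_C] at this
    omega
  rcases hz with ⟨hP, -, v, hv⟩ | ⟨s, hs, hP, -, v, hv, hν⟩ | ⟨s, hs, hP, hsign, -, v, w, hvw⟩ <;>
    rcases hz' with ⟨hP', -, v', hv'⟩ | ⟨s', hs', hP', -, v', hv', hν'⟩ | ⟨s', hs', hP', -, -, v', w', hvw'⟩
  · exact cyc_reg_iso h h' hP.1 hP.2.1 hP.2.2.1 _ hv hv'
  · exact (hlin s' hs' (hP' ▸ hP)).elim
  · exact (hsq s' hs' (hP' ▸ hP)).elim
  · exact (hlin s hs (hP ▸ hP')).elim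
  · obtain rfl : s = s' := by simpa using hP.symm.trans hP'
    rw [hP] at hv hv'
    exact cyc_linear_iso h2 h h' hs he hv hv' (not_iff_not.1 (hν.symm.trans hν'))
  · exact (hdeg s s' (hP.symm.trans hP')).elim
  · exact (hsq s hs (hP ▸ hP')).elim
  · exact (hdeg s' s (hP'.symm.trans hP)).elim
  · obtain rfl : s = s' := by
      have h1 := congrArg (fun P : F[X] => P.eval s) (hP.symm.trans hP')
      simp only [eval_pow, eval_sub, eval_X, eval_C, sub_self] at h1
      exact sub_eq_zero.1 (pow_eq_zero_iff (two_ne_zero) |>.1 (h1.symm.trans (zero_pow two_ne_zero)))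
    exact dbl_iso h2 h h' hs he hsign hvw hvw'

/-- the properties of a piece -/
theorem piece_props (h2 : (2 : F) ≠ 0) (h : FormAut δ B g) {z : (F[X] × ℕ) × Bool} (hW : IsPiece δ B g W z) :
    (∀ x ∈ W, g x ∈ W) ∧ NdOn B W ∧ finrank F W = z.1.2 * z.1.1.natDegree := by
  obtain ⟨he, hz⟩ := hW
  have hcyc : ∀ (Q : F[X]) (v : V), SelfDual Q → IsCyc B g W Q v →
      (∀ x ∈ W, g x ∈ W) ∧ NdOn B W ∧ finrank F W = Q.natDegree := by
    intro Q v hQ hv
    obtain ⟨τ, hτr, hττ⟩ := exists_bar hQ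
    obtain ⟨ρ, φ, hinj, hr, hnd, hpair, hg, hsym, -⟩ := hv.model h hQ hτr
    subst hr
    refine ⟨?_, ?_, ?_⟩
    · rintro _ ⟨a, rfl⟩; exact ⟨_, (hg a).symm⟩
    · rintro _ ⟨a, rfl⟩ hx
      have : τ a = 0 := hnd _ fun b => by rw [← hpair]; exact hx _ ⟨b, rfl⟩
      rw [← hττ a, this, map_zero, map_zero]
    · rw [LinearMap.finrank_range_of_inj hinj, (AdjoinRoot.powerBasis' hQ.1).finrank, AdjoinRoot.powerBasis'_dim]
  rcases hz with ⟨hP, -, v, hv⟩ | ⟨s, hs, hP, -, v, hv, -⟩ | ⟨s, hs, hP, hsign, -, v, w, hvw⟩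
  · obtain ⟨a, b, c⟩ := hcyc _ v (hP.1.pow _) hv
    exact ⟨a, b, c.trans (natDegree_pow _ _)⟩
  · obtain ⟨a, b, c⟩ := hcyc _ v (by rw [hP]; exact (selfDual_X_sub_C hs).pow _) hv
    exact ⟨a, b, c.trans (natDegree_pow _ _)⟩
  · have hQ := (selfDual_X_sub_C hs).pow z.1.2
    obtain ⟨τ, hτr, hττ⟩ := exists_bar hQ
    obtain ⟨ρ, hinj, hr, hg, hadj, hval⟩ := hvw.model h2 h hs he hsign hτr hττ
    subst hr
    refine ⟨?_, ?_, ?_⟩
    · rintro _ ⟨a, rfl⟩; exact ⟨_, (hg a).symm⟩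
    · rintro _ ⟨x, rfl⟩ hx
      have hx' : ∀ y, B (ρ x) (ρ y) = 0 := fun y => hx _ ⟨y, rfl⟩
      by_contra hne
      -- a multiple in the socle
      have hx0 : x ≠ 0 := fun e0 => hne (by rw [e0, map_zero])
      set ε := AdjoinRoot.mk ((X - C s) ^ z.1.2) (X - C s)
      classical
      have hex : ∃ j : ℕ, ε ^ j • x = 0 :=
        ⟨z.1.2, by rw [show ε ^ z.1.2 = 0 by rw [← map_pow, AdjoinRoot.mk_self], zero_smul]⟩
      let j := Nat.find hex
      have hj : ε ^ j • x = 0 := Nat.find_spec hex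
      have hj0 : 0 < j := Nat.pos_of_ne_zero fun h0 => hx0 (by rwa [h0, pow_zero, one_smul] at hj)
      have hy0 : ε ^ (j - 1) • x ≠ 0 := Nat.find_min hex (show j - 1 < j by omega)
      have hεy : ε • (ε ^ (j - 1) • x) = 0 := by rw [smul_smul, ← pow_succ', Nat.sub_add_cancel hj0, hj]
      set E1 := AdjoinRoot.mk ((X - C s) ^ z.1.2) ((X - C s) ^ (z.1.2 - 1))
      have hsoc : ∀ a : AdjoinRoot ((X - C s) ^ z.1.2), ε * a = 0 → ∃ p : F[X], E1 * AdjoinRoot.mk _ p = a := by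
        intro a ha
        obtain ⟨p, rfl⟩ := AdjoinRoot.mk_surjective a
        rw [← map_mul, AdjoinRoot.mk_eq_zero] at ha
        have hee : (X - C s) ^ z.1.2 = (X - C s) * (X - C s) ^ (z.1.2 - 1) := by
          rw [← pow_succ']; congr 1; omega
        rw [hee] at ha
        obtain ⟨r, hr⟩ := (mul_dvd_mul_iff_left (X_sub_C_ne_zero s)).1 ha
        exact ⟨r, by rw [← map_mul, hr]⟩
      obtain ⟨p1, hp1⟩ := hsoc _ (congrArg Prod.fst hεy)
      obtain ⟨r1, hr1⟩ := hsoc _ (congrArg Prod.snd hεy)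
      have hy : E1 • ((AdjoinRoot.mk ((X - C s) ^ z.1.2) p1, AdjoinRoot.mk ((X - C s) ^ z.1.2) r1)) =
          ε ^ (j - 1) • x := Prod.ext hp1 hr1
      have ev1 : ∀ p r : F[X], (p.eval s * r1.eval s - r.eval s * p1.eval s) *
          B v (pev g ((X - C s) ^ (z.1.2 - 1)) w) = 0 := fun p r => by
        rw [← hval, hy, h.symm, hadj, hx', mul_zero]
      have hL0 := hvw.2.2.2.2
      have hr10 : r1.eval s = 0 := by simpa using (mul_eq_zero.1 (ev1 1 0)).resolve_right hL0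
      have hp10 : p1.eval s = 0 := by simpa using (mul_eq_zero.1 (ev1 0 1)).resolve_right hL0
      refine hy0 (hy ▸ Prod.ext ?_ ?_)
      · simp only [Prod.smul_fst, smul_eq_mul, Prod.fst_zero]
        rw [mul_comm, socle_mul s he, hp10, zero_smul]
      · simp only [Prod.smul_snd, smul_eq_mul, Prod.snd_zero]
        rw [mul_comm, socle_mul s he, hr10, zero_smul]
    · haveI : Module.Finite F (AdjoinRoot ((X - C s) ^ z.1.2)) := (AdjoinRoot.powerBasis' hQ.1).finite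
      rw [LinearMap.finrank_range_of_inj hinj, Module.finrank_prod, (AdjoinRoot.powerBasis' hQ.1).finrank,
        AdjoinRoot.powerBasis'_dim, hP, natDegree_pow, natDegree_pow, natDegree_X_sub_C]
      ring

end Cfsg.Agent.CN9
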